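import Groth.Agent.Pic13Lib.CokerFam
import Groth.Agent.QCoh.Devissage
import Groth.Agent.KZ.OpenExt

/-!
# Bounded families: unions, sums and generic criteria
-/

set_option autoImplicit false
set_option linter.style.haveILetI false
set_option linter.unusedSectionVars false
set_option backward.isDefEq.respectTransparency false
set_option backward.isDefEq.respectTransparency.types false
set_option maxHeartbeats 1000000

universe u

open CategoryTheory CategoryTheory.Limits AlgebraicGeometry TopologicalSpace Opposite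
open Groth.Agent.H23 Groth.Agent.H23.PicMul

attribute [local instance] PicMul.clMonoid

noncomputable section

namespace Groth.Agent.Pic13Lib.Bdd

open Groth.Agent

variable {k : Type u} [Field k] {X : Scheme.{u}} [X.Over (Spec (CommRingCat.of k))]
  [IsProper (X ↘ Spec (CommRingCat.of k))]

/-- The empty family is bounded. -/
theorem isBounded_empty {P : X.Modules → Prop} (h : ∀ L, ¬ P L) : Pic13.IsBounded k X P := by
  haveI := CurveCohLib.isNoetherian_of_proper (k := k) (X := X)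
  haveI : IsLocallyNoetherian (Pic13.prodK k X (𝟙 (Spec (CommRingCat.of k)))) :=
    LocallyOfFiniteType.isLocallyNoetherian (pullback.fst (X ↘ Spec (CommRingCat.of k)) (𝟙 _))
  exact ⟨_, 𝟙 _, inferInstance, inferInstance, _, QCoh.isCoh_structureModule', fun L hL => absurd hL (h L)⟩

theorem isLocallyNoetherian_prodK {T : Scheme.{u}} (q : T ⟶ Spec (CommRingCat.of k)) [LocallyOfFiniteType q] :
    IsLocallyNoetherian (Pic13.prodK k X q) := by
  haveI := CurveCohLib.isNoetherian_of_proper (k := k) (X := X)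
  exact LocallyOfFiniteType.isLocallyNoetherian (pullback.fst (X ↘ Spec (CommRingCat.of k)) q)

/-- The morphism of products attached to a morphism of parameters. -/
abbrev pm {T T' : Scheme.{u}} (j : T' ⟶ T) {q' : T' ⟶ Spec (CommRingCat.of k)} {q : T ⟶ Spec (CommRingCat.of k)}
    (hj : j ≫ q = q') : Pic13.prodK k X q' ⟶ Pic13.prodK k X q :=
  pullback.lift (pullback.fst _ _) (pullback.snd _ _ ≫ j) (by rw [Category.assoc, hj]; exact pullback.condition)

theorem slice_pm {T T' : Scheme.{u}} (j : T' ⟶ T) {q' : T' ⟶ Spec (CommRingCat.of k)}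
    {q : T ⟶ Spec (CommRingCat.of k)} (hj : j ≫ q = q') (t : Spec (CommRingCat.of k) ⟶ T') (ht : t ≫ q' = 𝟙 _)
    (ht' : (t ≫ j) ≫ q = 𝟙 _) :
    Pic13.sliceAt k X q' t ht ≫ pm j hj = Pic13.sliceAt k X q (t ≫ j) ht' := by
  refine pullback.hom_ext ?_ ?_
  · rw [Category.assoc, pullback.lift_fst, sliceAt_fst, sliceAt_fst]
  · rw [Category.assoc, pullback.lift_snd, ← Category.assoc, sliceAt_snd, sliceAt_snd, Category.assoc]

/-- The fibre of a pulled back family. -/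
def fibrePm {T T' : Scheme.{u}} (j : T' ⟶ T) {q' : T' ⟶ Spec (CommRingCat.of k)}
    {q : T ⟶ Spec (CommRingCat.of k)} (hj : j ≫ q = q') (t : Spec (CommRingCat.of k) ⟶ T') (ht : t ≫ q' = 𝟙 _)
    (ht' : (t ≫ j) ≫ q = 𝟙 _) (G : (Pic13.prodK k X q).Modules) :
    Pic13.fibreMod k X q' t ht ((Scheme.Modules.pullback (pm j hj)).obj G) ≅ Pic13.fibreMod k X q (t ≫ j) ht' G :=
  (Scheme.Modules.pullbackComp _ _).app G ≪≫ (Scheme.Modules.pullbackCongr (slice_pm j hj t ht ht')).app G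

/-- Fibres depend only on the point. -/
theorem fibre_congr {T : Scheme.{u}} (q : T ⟶ Spec (CommRingCat.of k)) {t t' : Spec (CommRingCat.of k) ⟶ T}
    (e : t = t') (ht : t ≫ q = 𝟙 _) (ht' : t' ≫ q = 𝟙 _) (G : (Pic13.prodK k X q).Modules) :
    Nonempty (Pic13.fibreMod k X q t ht G ≅ Pic13.fibreMod k X q t' ht' G) := by
  subst e
  exact ⟨Iso.refl _⟩

theorem pullCl_pullback {Y Z : Scheme.{u}} (f : Y ⟶ Z) (M : Z.Modules) :
    PicF.cl ((Scheme.Modules.pullback f).obj M) = PicF.pullCl f (PicF.cl M) := rfl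

theorem nonempty_pullback_tensor {Y Z : Scheme.{u}} (f : Y ⟶ Z) (A B : Z.Modules) :
    Nonempty ((Scheme.Modules.pullback f).obj (CohB1.tensorMod A B) ≅
      CohB1.tensorMod ((Scheme.Modules.pullback f).obj A) ((Scheme.Modules.pullback f).obj B)) := by
  refine cl_eq_iff.1 ?_
  rw [pullCl_pullback, cl_tensor, PicMul.pullCl_mul, cl_tensor]
  rfl

theorem isCoh_coker_ofSect {Y : Scheme.{u}} [IsLocallyNoetherian Y] (τ : Fin 1 → Γ(Y, ⊤)) :
    Coh.IsCoh (cokernel (descSect (E := Coh.structureModule Y) τ)) :=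
  QCoh.isCoh_cokernel (QCoh16.isQCoh_free 1) QCoh.isCoh_structureModule' _

theorem ofSect_zero {Y : Scheme.{u}} (E : Y.Modules) : InvX.ofSect (0 : Γ(E, ⊤)) = 0 :=
  SeesawX.hom_ext_one _ _ (InvX.one_ofSect (M := E) 0)

theorem ofSect_one {Y : Scheme.{u}} {E : Y.Modules} (f : Coh.structureModule Y ⟶ E) :
    InvX.ofSect (InvX.one f) = f :=
  SeesawX.hom_ext_one _ _ (InvX.one_ofSect (InvX.one f))

theorem nonempty_coker_zero {Y : Scheme.{u}} {E : Y.Modules} (τ : Fin 1 → Γ(E, ⊤)) (h : τ 0 = 0) :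
    Nonempty (cokernel (descSect τ) ≅ E) := by
  have hz : descSect τ = 0 := Sigma.hom_ext _ _ fun j => by
    rw [Sigma.ι_desc, comp_zero, Subsingleton.elim j 0, h, ofSect_zero]
  exact ⟨cokernelIsoOfEq hz ≪≫ cokernelZeroIsoTarget⟩

theorem isZero_coker_one {Y : Scheme.{u}} {E : Y.Modules} (f : Coh.structureModule Y ⟶ E) [Epi f]
    (τ : Fin 1 → Γ(E, ⊤)) (h : τ 0 = InvX.one f) : IsZero (cokernel (descSect τ)) := by
  have hfac : Sigma.ι (fun _ : Fin 1 => Coh.structureModule Y) 0 ≫ descSect τ = f := by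
    rw [Sigma.ι_desc, h, ofSect_one]
  haveI : Epi (Sigma.ι (fun _ : Fin 1 => Coh.structureModule Y) 0 ≫ descSect τ) := hfac ▸ ‹Epi f›
  haveI : Epi (descSect τ) := epi_of_epi (Sigma.ι (fun _ : Fin 1 => Coh.structureModule Y) 0) _
  exact isZero_cokernel_of_epi _

theorem isZero_tensor_left {Y : Scheme.{u}} (M : Y.Modules) {N : Y.Modules} (hN : IsZero N) :
    IsZero (CohB1.tensorMod M N) :=
  haveI := (inferInstance : (DCoh.tensorBi.obj M).Additive)
  Functor.map_isZero (DCoh.tensorBi.obj M) hN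

theorem biprodCongr {C : Type*} [Category C] [Preadditive C] [HasBinaryBiproducts C] {A B A' B' : C} (e : A ≅ A')
    (e' : B ≅ B') : Nonempty (A ⊞ B ≅ A' ⊞ B') :=
  ⟨biprod.mapIso e e'⟩

theorem nonempty_pullback_biprod {Y Z : Scheme.{u}} (f : Y ⟶ Z) (A B : Z.Modules) :
    Nonempty ((Scheme.Modules.pullback f).obj (A ⊞ B) ≅
      (Scheme.Modules.pullback f).obj A ⊞ (Scheme.Modules.pullback f).obj B) := by
  haveI : (Scheme.Modules.pullback f).IsLeftAdjoint :=
    (Scheme.Modules.pullbackPushforwardAdjunction f).isLeftAdjoint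
  haveI : (Scheme.Modules.pullback f).Additive := inferInstance
  haveI := preservesBinaryBiproducts_of_preservesBiproducts (Scheme.Modules.pullback f)
  exact ⟨Functor.mapBiprod _ A B⟩

/-- Sums of members of two bounded families form a bounded family. -/
theorem isBounded_sum {P P' : X.Modules → Prop} (h : Pic13.IsBounded k X P) (h' : Pic13.IsBounded k X P') :
    Pic13.IsBounded k X fun L => ∃ A B, P A ∧ P' B ∧ Nonempty (A ⊞ B ≅ L) := by
  obtain ⟨T, q, hq, hq', G, hG, hmem⟩ := h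
  obtain ⟨T', q', hq₁, hq₁', G', hG', hmem'⟩ := h'
  haveI := hq; haveI := hq'; haveI := hq₁; haveI := hq₁'
  let r := pullback.fst q q' ≫ q
  haveI := isLocallyNoetherian_prodK (X := X) r
  have e₂ : pullback.snd q q' ≫ q' = r := pullback.condition.symm
  let F₁ := (Scheme.Modules.pullback (pm (X := X) (pullback.fst q q') (q' := r) rfl)).obj G
  let F₂ := (Scheme.Modules.pullback (pm (X := X) (pullback.snd q q') e₂)).obj G'
  refine ⟨_, r, inferInstance, inferInstance, F₁ ⊞ F₂,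
    KZ.isCoh_biprod (ZClosLib.isCoh_pullback _ hG) (ZClosLib.isCoh_pullback _ hG'), fun L hL => ?_⟩
  obtain ⟨A, B, hA, hB, ⟨e⟩⟩ := hL
  obtain ⟨t, ht, ⟨eA⟩⟩ := hmem A hA
  obtain ⟨t', ht', ⟨eB⟩⟩ := hmem' B hB
  have hc : t ≫ q = t' ≫ q' := ht.trans ht'.symm
  let w := pullback.lift t t' hc
  have hw₁ : w ≫ pullback.fst q q' = t := pullback.lift_fst _ _ _
  have hw₂ : w ≫ pullback.snd q q' = t' := pullback.lift_snd _ _ _
  have hw : w ≫ r = 𝟙 _ := by rw [← Category.assoc, hw₁, ht]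
  obtain ⟨b⟩ := nonempty_pullback_biprod (Pic13.sliceAt k X r w hw) F₁ F₂
  obtain ⟨c₁⟩ := fibre_congr (X := X) q hw₁ (by rw [hw₁, ht]) ht G
  obtain ⟨c₂⟩ := fibre_congr (X := X) q' hw₂ (by rw [hw₂, ht']) ht' G'
  obtain ⟨d⟩ := biprodCongr (fibrePm _ _ w hw (by rw [hw₁, ht]) G ≪≫ c₁ ≪≫ eA)
    (fibrePm _ e₂ w hw (by rw [hw₂, ht']) G' ≪≫ c₂ ≪≫ eB)
  exact ⟨w, hw, ⟨b ≪≫ d ≪≫ e⟩⟩

/-- Tensor products of members of two bounded families form a bounded family. -/
theorem isBounded_tensorProd {P P' : X.Modules → Prop} (h : Pic13.IsBounded k X P)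
    (h' : Pic13.IsBounded k X P') :
    Pic13.IsBounded k X fun L => ∃ A B, P A ∧ P' B ∧ Nonempty (CohB1.tensorMod A B ≅ L) := by
  obtain ⟨T, q, hq, hq', G, hG, hmem⟩ := h
  obtain ⟨T', q', hq₁, hq₁', G', hG', hmem'⟩ := h'
  haveI := hq; haveI := hq'; haveI := hq₁; haveI := hq₁'
  let r := pullback.fst q q' ≫ q
  haveI := isLocallyNoetherian_prodK (X := X) r
  have e₂ : pullback.snd q q' ≫ q' = r := pullback.condition.symm
  let F₁ := (Scheme.Modules.pullback (pm (X := X) (pullback.fst q q') (q' := r) rfl)).obj G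
  let F₂ := (Scheme.Modules.pullback (pm (X := X) (pullback.snd q q') e₂)).obj G'
  refine ⟨_, r, inferInstance, inferInstance, CohB1.tensorMod F₁ F₂,
    AmpleVan.isCoh_tensor (ZClosLib.isCoh_pullback _ hG) (ZClosLib.isCoh_pullback _ hG'), fun L hL => ?_⟩
  obtain ⟨A, B, hA, hB, ⟨e⟩⟩ := hL
  obtain ⟨t, ht, ⟨eA⟩⟩ := hmem A hA
  obtain ⟨t', ht', ⟨eB⟩⟩ := hmem' B hB
  have hc : t ≫ q = t' ≫ q' := ht.trans ht'.symm
  let w := pullback.lift t t' hc
  have hw₁ : w ≫ pullback.fst q q' = t := pullback.lift_fst _ _ _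
  have hw₂ : w ≫ pullback.snd q q' = t' := pullback.lift_snd _ _ _
  have hw : w ≫ r = 𝟙 _ := by rw [← Category.assoc, hw₁, ht]
  obtain ⟨c₁⟩ := fibre_congr (X := X) q hw₁ (by rw [hw₁, ht]) ht G
  obtain ⟨c₂⟩ := fibre_congr (X := X) q' hw₂ (by rw [hw₂, ht']) ht' G'
  refine ⟨w, hw, cl_eq_iff.1 ?_⟩
  show PicF.pullCl (Pic13.sliceAt k X r w hw) (PicF.cl (CohB1.tensorMod F₁ F₂)) = _
  rw [cl_tensor, PicMul.pullCl_mul, ← cl_eq_iff.2 ⟨e⟩, cl_tensor]
  exact congrArg₂ (· * ·) (cl_eq_iff.2 ⟨fibrePm _ _ w hw (by rw [hw₁, ht]) G ≪≫ c₁ ≪≫ eA⟩)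
    (cl_eq_iff.2 ⟨fibrePm _ e₂ w hw (by rw [hw₂, ht']) G' ≪≫ c₂ ≪≫ eB⟩)

/-- A single coherent module is a bounded family. -/
theorem isBounded_single {E : X.Modules} (hE : Coh.IsCoh E) :
    Pic13.IsBounded k X fun L => Nonempty (E ≅ L) := by
  haveI := isLocallyNoetherian_prodK (X := X) (𝟙 (Spec (CommRingCat.of k)))
  refine ⟨_, 𝟙 _, inferInstance, inferInstance,
    (Scheme.Modules.pullback (pullback.fst (X ↘ Spec (CommRingCat.of k)) (𝟙 _))).obj E,
    ZClosLib.isCoh_pullback _ hE, fun L ⟨e⟩ => ⟨𝟙 _, Category.id_comp _, ⟨?_⟩⟩⟩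
  exact (Scheme.Modules.pullbackComp _ _).app E ≪≫
    (Scheme.Modules.pullbackCongr (sliceAt_fst (X := X) _ _ (Category.id_comp _))).app E ≪≫
    (Scheme.Modules.pullbackId X).app E ≪≫ e

theorem nonempty_pick {Y : Scheme.{u}} {A B Z O : Y.Modules} (ha : Nonempty (Z ≅ A)) (hz : IsZero O) :
    Nonempty (Z ⊞ O ≅ A) ∧ Nonempty (O ⊞ Z ≅ A) := by
  obtain ⟨a⟩ := ha
  exact ⟨⟨(isoBiprodZero (X := Z) hz).symm ≪≫ a⟩,
    ⟨biprod.braiding _ _ ≪≫ (isoBiprodZero (X := Z) hz).symm ≪≫ a⟩⟩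

/-- The union of two bounded families is bounded. -/
theorem isBounded_union {P P' : X.Modules → Prop} (h : Pic13.IsBounded k X P) (h' : Pic13.IsBounded k X P') :
    Pic13.IsBounded k X fun L => P L ∨ P' L := by
  by_cases hP : ∃ L, P L
  swap
  · exact isBounded_mono (fun L hL => hL.resolve_left fun hh => hP ⟨L, hh⟩) h'
  by_cases hP' : ∃ L, P' L
  swap
  · exact isBounded_mono (fun L hL => hL.resolve_right fun hh => hP' ⟨L, hh⟩) h
  obtain ⟨L₀, hL₀⟩ := hP
  obtain ⟨L₀', hL₀'⟩ := hP'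
  obtain ⟨T, q, hq, hq', G, hG, hmem⟩ := h
  obtain ⟨T', q', hq₁, hq₁', G', hG', hmem'⟩ := h'
  haveI := hq; haveI := hq'; haveI := hq₁; haveI := hq₁'
  obtain ⟨t₀, ht₀, -⟩ := hmem L₀ hL₀
  obtain ⟨t₀', ht₀', -⟩ := hmem' L₀' hL₀'
  let A := Polynomial k
  let a : Spec (CommRingCat.of A) ⟶ Spec (CommRingCat.of k) := Spec.map (CommRingCat.ofHom Polynomial.C)
  haveI : LocallyOfFiniteType a := by
    rw [HasRingHomProperty.Spec_iff (P := @LocallyOfFiniteType)]
    exact RingHom.finiteType_algebraMap.2 (inferInstance : Algebra.FiniteType k A)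
  let v : A → Γ(Spec (CommRingCat.of A), ⊤) := fun x => (Scheme.ΓSpecIso (CommRingCat.of A)).inv x
  let b := pullback.fst q q' ≫ q
  let r := pullback.fst b a ≫ b
  haveI := isLocallyNoetherian_prodK (X := X) r
  let P₀ := Pic13.prodK k X r
  let z : P₀ ⟶ Spec (CommRingCat.of A) := pullback.snd (X ↘ Spec (CommRingCat.of k)) r ≫ pullback.snd b a
  let τ₀ : Fin 1 → Γ(P₀, ⊤) := fun _ => z.appTop (v Polynomial.X)
  let τ₁ : Fin 1 → Γ(P₀, ⊤) := fun _ => z.appTop (v (Polynomial.X - 1))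
  let O₀ := cokernel (descSect (E := Coh.structureModule P₀) τ₀)
  let O₁ := cokernel (descSect (E := Coh.structureModule P₀) τ₁)
  let j := pullback.fst b a ≫ pullback.fst q q'
  let j' := pullback.fst b a ≫ pullback.snd q q'
  have ej : j ≫ q = r := Category.assoc _ _ _
  have ej' : j' ≫ q' = r := by
    show (pullback.fst b a ≫ pullback.snd q q') ≫ q' = _
    rw [Category.assoc, ← pullback.condition]
  let F₁ := (Scheme.Modules.pullback (pm (X := X) j ej)).obj G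
  let F₂ := (Scheme.Modules.pullback (pm (X := X) j' ej')).obj G'
  refine ⟨_, r, inferInstance, inferInstance, CohB1.tensorMod F₁ O₀ ⊞ CohB1.tensorMod F₂ O₁,
    KZ.isCoh_biprod (AmpleVan.isCoh_tensor (ZClosLib.isCoh_pullback _ hG) (isCoh_coker_ofSect τ₀))
      (AmpleVan.isCoh_tensor (ZClosLib.isCoh_pullback _ hG') (isCoh_coker_ofSect τ₁)), fun L hL => ?_⟩
  have key : ∀ (t : Spec (CommRingCat.of k) ⟶ T) (ht : t ≫ q = 𝟙 _) (t' : Spec (CommRingCat.of k) ⟶ T')
      (ht' : t' ≫ q' = 𝟙 _) (c : k), ∃ (w : Spec (CommRingCat.of k) ⟶ _) (hw : w ≫ r = 𝟙 _),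
        let s := Pic13.sliceAt k X r w hw
        Nonempty ((Scheme.Modules.pullback s).obj F₁ ≅ Pic13.fibreMod k X q t ht G) ∧
        Nonempty ((Scheme.Modules.pullback s).obj F₂ ≅ Pic13.fibreMod k X q' t' ht' G') ∧
        ∀ x : A, s.appTop (z.appTop (v x)) = Coh.toGlobal (X ↘ Spec (CommRingCat.of k)) (x.eval c) := by
    intro t ht t' ht' c
    let w₁ := pullback.lift t t' (ht.trans ht'.symm)
    have h1 : w₁ ≫ b = 𝟙 _ := by rw [← Category.assoc, pullback.lift_fst, ht]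
    let w₂ : Spec (CommRingCat.of k) ⟶ Spec (CommRingCat.of A) :=
      Spec.map (CommRingCat.ofHom (Polynomial.evalRingHom c))
    have h2 : w₂ ≫ a = 𝟙 _ := by
      rw [← Spec.map_comp, show CommRingCat.ofHom Polynomial.C ≫ CommRingCat.ofHom (Polynomial.evalRingHom c) =
        𝟙 (CommRingCat.of k) from CommRingCat.hom_ext (RingHom.ext fun x => Polynomial.eval_C), Spec.map_id]
    let w := pullback.lift w₁ w₂ (h1.trans h2.symm)
    have hw : w ≫ r = 𝟙 _ := by rw [← Category.assoc, pullback.lift_fst, h1]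
    have e1 : w ≫ j = t := by rw [← Category.assoc, pullback.lift_fst, pullback.lift_fst]
    have e2 : w ≫ j' = t' := by rw [← Category.assoc, pullback.lift_fst, pullback.lift_snd]
    obtain ⟨c₁⟩ := fibre_congr (X := X) q e1 (by rw [e1, ht]) ht G
    obtain ⟨c₂⟩ := fibre_congr (X := X) q' e2 (by rw [e2, ht']) ht' G'
    refine ⟨w, hw, ⟨fibrePm _ ej w hw (by rw [e1, ht]) G ≪≫ c₁⟩,
      ⟨fibrePm _ ej' w hw (by rw [e2, ht']) G' ≪≫ c₂⟩, fun x => ?_⟩
    have hz : Pic13.sliceAt k X r w hw ≫ z = (X ↘ Spec (CommRingCat.of k)) ≫ w₂ := by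
      show _ ≫ _ ≫ _ = _
      rw [← Category.assoc, sliceAt_snd, Category.assoc, pullback.lift_snd]
    have h3 := congrArg (fun φ => Scheme.Hom.appTop φ (v x)) hz
    simp only [Scheme.Hom.comp_appTop, CommRingCat.comp_apply] at h3
    refine h3.trans (congrArg _ ?_)
    exact (ConcreteCategory.congr_hom (Scheme.ΓSpecIso_inv_naturality
      (CommRingCat.ofHom (Polynomial.evalRingHom c))) x).symm
  have sel : ∀ (w : Spec (CommRingCat.of k) ⟶ _) (hw : w ≫ r = 𝟙 _) (x : A) (c : k),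
      let s := Pic13.sliceAt k X r w hw
      (∀ y : A, s.appTop (z.appTop (v y)) = Coh.toGlobal (X ↘ Spec (CommRingCat.of k)) (y.eval c)) →
      (x.eval c = 0 → Nonempty ((Scheme.Modules.pullback s).obj
        (cokernel (descSect (E := Coh.structureModule P₀) fun _ : Fin 1 => z.appTop (v x))) ≅ Coh.structureModule X)) ∧
      (x.eval c = 1 ∨ x.eval c = -1 → IsZero ((Scheme.Modules.pullback s).obj
        (cokernel (descSect (E := Coh.structureModule P₀) fun _ : Fin 1 => z.appTop (v x))))) := by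
    intro w hw x c s hs
    have hO : ∀ y : Γ(P₀, ⊤), (SeesawX.unitIso s).hom.app ⊤ (ProjUP.pullSec s (Coh.structureModule P₀) y) =
        s.appTop y := fun y => by
      refine Eq.trans (congrArg (fun u => (SeesawX.unitIso s).hom.app ⊤ (ProjUP.pullSec s (Coh.structureModule P₀) u))
        (mul_one y).symm) ?_
      refine (congrArg ((SeesawX.unitIso s).hom.app ⊤) (HyperplaneLib.pullSec_smul' s (Coh.structureModule P₀) y
        (show Γ(Coh.structureModule P₀, ⊤) from (1 : Γ(P₀, ⊤))))).trans ?_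
      refine (Scheme.Modules.Hom.app_smul (SeesawX.unitIso s).hom _ _).trans ?_
      refine (congrArg (fun u : Γ(Coh.structureModule X, ⊤) => s.appTop y • u) ?_).trans (mul_one (s.appTop y))
      rw [← HyperplaneLib.qPullSec_eq]
      exact SeesawX.unitIso_pullSec_one s ⊤ le_top
    obtain ⟨e₁⟩ := nonempty_coker_pullback s (E := Coh.structureModule P₀) fun _ : Fin 1 => z.appTop (v x)
    obtain ⟨e₂⟩ := nonempty_coker_congr (SeesawX.unitIso s)
      (fun _ : Fin 1 => ProjUP.pullSec s (Coh.structureModule P₀) (z.appTop (v x)))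
      (fun _ => (show Γ(X, ⊤) from Coh.toGlobal (X ↘ Spec (CommRingCat.of k)) (x.eval c)))
      fun _ => (hO _).trans (hs x)
    refine ⟨fun h0 => ?_, fun h1 => ?_⟩
    · obtain ⟨e₃⟩ := nonempty_coker_zero (E := Coh.structureModule X)
        (fun _ : Fin 1 => (show Γ(X, ⊤) from Coh.toGlobal (X ↘ Spec (CommRingCat.of k)) (x.eval c)))
        ((congrArg _ h0).trans (map_zero _))
      exact ⟨e₁ ≪≫ e₂ ≪≫ e₃⟩
    · refine IsZero.of_iso ?_ (e₁ ≪≫ e₂)
      rcases h1 with h1 | h1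
      · refine isZero_coker_one (E := Coh.structureModule X) (𝟙 (Coh.structureModule X)) _ ?_
        show (Coh.toGlobal (X ↘ Spec (CommRingCat.of k))) (x.eval c) = (1 : Γ(X, ⊤))
        rw [h1, map_one]
      · refine isZero_coker_one (E := Coh.structureModule X) (-𝟙 (Coh.structureModule X)) _ ?_
        show (Coh.toGlobal (X ↘ Spec (CommRingCat.of k))) (x.eval c) = -(1 : Γ(X, ⊤))
        rw [h1, map_neg, map_one]
  rcases hL with hL | hL
  · obtain ⟨t, ht, ⟨eL⟩⟩ := hmem L hL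
    obtain ⟨w, hw, ⟨f₁⟩, -, hs⟩ := key t ht t₀' ht₀' 0
    let S := Scheme.Modules.pullback (Pic13.sliceAt k X r w hw)
    obtain ⟨b'⟩ := nonempty_pullback_biprod (Pic13.sliceAt k X r w hw) (CohB1.tensorMod F₁ O₀)
      (CohB1.tensorMod F₂ O₁)
    have hZ : Nonempty (S.obj (CohB1.tensorMod F₁ O₀) ≅ L) := by
      refine cl_eq_iff.1 ?_
      rw [pullCl_pullback, cl_tensor, PicMul.pullCl_mul, ← pullCl_pullback, ← pullCl_pullback,
        cl_eq_iff.2 ((sel w hw Polynomial.X 0 hs).1 Polynomial.eval_X), cl_eq_iff.2 ⟨f₁ ≪≫ eL⟩, ← PicMul.one_def,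
        mul_one]
    have hzero : IsZero (S.obj (CohB1.tensorMod F₂ O₁)) := by
      obtain ⟨π⟩ := nonempty_pullback_tensor (Pic13.sliceAt k X r w hw) F₂ O₁
      exact IsZero.of_iso (isZero_tensor_left _ ((sel w hw (Polynomial.X - 1) 0 hs).2
        (Or.inr ((by rw [Polynomial.eval_sub, Polynomial.eval_X, Polynomial.eval_one, zero_sub]))))) π
    obtain ⟨p⟩ := (nonempty_pick (B := L) hZ hzero).1
    exact ⟨w, hw, ⟨b' ≪≫ p⟩⟩
  · obtain ⟨t', ht', ⟨eL⟩⟩ := hmem' L hL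
    obtain ⟨w, hw, -, ⟨f₂⟩, hs⟩ := key t₀ ht₀ t' ht' 1
    let S := Scheme.Modules.pullback (Pic13.sliceAt k X r w hw)
    obtain ⟨b'⟩ := nonempty_pullback_biprod (Pic13.sliceAt k X r w hw) (CohB1.tensorMod F₁ O₀)
      (CohB1.tensorMod F₂ O₁)
    have hZ : Nonempty (S.obj (CohB1.tensorMod F₂ O₁) ≅ L) := by
      refine cl_eq_iff.1 ?_
      rw [pullCl_pullback, cl_tensor, PicMul.pullCl_mul, ← pullCl_pullback, ← pullCl_pullback,
        cl_eq_iff.2 ((sel w hw (Polynomial.X - 1) 1 hs).1 (by rw [Polynomial.eval_sub, Polynomial.eval_X, Polynomial.eval_one, sub_self])), cl_eq_iff.2 ⟨f₂ ≪≫ eL⟩, ← PicMul.one_def,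
        mul_one]
    have hzero : IsZero (S.obj (CohB1.tensorMod F₁ O₀)) := by
      obtain ⟨π⟩ := nonempty_pullback_tensor (Pic13.sliceAt k X r w hw) F₁ O₀
      exact IsZero.of_iso (isZero_tensor_left _ ((sel w hw Polynomial.X 1 hs).2
        (Or.inl Polynomial.eval_X))) π
    obtain ⟨p⟩ := (nonempty_pick (B := L) hZ hzero).2
    exact ⟨w, hw, ⟨b' ≪≫ p⟩⟩

/-- The pullback of a bounded family along a morphism of proper schemes is bounded. -/
theorem isBounded_pullback {Y : Scheme.{u}} [Y.Over (Spec (CommRingCat.of k))]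
    [IsProper (Y ↘ Spec (CommRingCat.of k))] (g : Y ⟶ X)
    (hg : g ≫ (X ↘ Spec (CommRingCat.of k)) = Y ↘ Spec (CommRingCat.of k)) {P : X.Modules → Prop}
    (h : Pic13.IsBounded k X P) :
    Pic13.IsBounded k Y fun L => ∃ A, P A ∧ Nonempty ((Scheme.Modules.pullback g).obj A ≅ L) := by
  obtain ⟨T, q, hq, hq', G, hG, hmem⟩ := h
  haveI := hq; haveI := hq'
  haveI := isLocallyNoetherian_prodK (X := Y) q
  let gT : Pic13.prodK k Y q ⟶ Pic13.prodK k X q :=
    pullback.lift (pullback.fst _ _ ≫ g) (pullback.snd _ _) (by rw [Category.assoc, hg]; exact pullback.condition)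
  refine ⟨T, q, hq, hq', (Scheme.Modules.pullback gT).obj G, ZClosLib.isCoh_pullback _ hG,
    fun L ⟨A, hA, ⟨e⟩⟩ => ?_⟩
  obtain ⟨t, ht, ⟨eA⟩⟩ := hmem A hA
  refine ⟨t, ht, ⟨?_⟩⟩
  have hs : Pic13.sliceAt k Y q t ht ≫ gT = g ≫ Pic13.sliceAt k X q t ht := by
    refine pullback.hom_ext ?_ ?_
    · rw [Category.assoc, pullback.lift_fst, ← Category.assoc, sliceAt_fst, Category.id_comp, Category.assoc,
        sliceAt_fst, Category.comp_id]
    · rw [Category.assoc, pullback.lift_snd, sliceAt_snd, Category.assoc, sliceAt_snd, ← Category.assoc, hg]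
  exact (Scheme.Modules.pullbackComp _ _).app G ≪≫ (Scheme.Modules.pullbackCongr hs).app G ≪≫
    ((Scheme.Modules.pullbackComp _ _).app G).symm ≪≫ (Scheme.Modules.pullback g).mapIso eA ≪≫ e

/-- A family indexed by the points of a scheme of finite type is bounded if it is so generically on
every integral affine piece. -/
theorem isBounded_of_generic {T : Scheme.{u}} (q : T ⟶ Spec (CommRingCat.of k)) [LocallyOfFiniteType q]
    [QuasiCompact q] (R : (Spec (CommRingCat.of k) ⟶ T) → X.Modules → Prop)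
    (h : ∀ (T' : Scheme.{u}) (j : T' ⟶ T) (q' : T' ⟶ Spec (CommRingCat.of k)) (_ : j ≫ q = q')
      [IsIntegral T'] [IsAffine T'] [LocallyOfFiniteType q'] [QuasiCompact q'],
      ∃ U : T'.Opens, (U : Set T').Nonempty ∧ Pic13.IsBounded k X fun L =>
        ∃ t' : Spec (CommRingCat.of k) ⟶ T', t' ≫ q' = 𝟙 _ ∧ t' (IsLocalRing.closedPoint k) ∈ U ∧ R (t' ≫ j) L) :
    Pic13.IsBounded k X fun L => ∃ t : Spec (CommRingCat.of k) ⟶ T, t ≫ q = 𝟙 _ ∧ R t L := by
  haveI : IsLocallyNoetherian T := LocallyOfFiniteType.isLocallyNoetherian q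
  haveI : CompactSpace T := QuasiCompact.compactSpace_of_compactSpace q
  haveI : IsNoetherian T := ⟨⟩
  suffices H : ∀ C : Closeds T, Pic13.IsBounded k X fun L => ∃ t : Spec (CommRingCat.of k) ⟶ T,
      t ≫ q = 𝟙 _ ∧ t (IsLocalRing.closedPoint k) ∈ (C : Set T) ∧ R t L from
    isBounded_mono (fun L ⟨t, ht, hR⟩ => ⟨t, ht, Set.mem_univ _, hR⟩) (H ⊤)
  intro C
  induction C using WellFoundedLT.induction with
  | _ C ih =>
  by_cases hne : (C : Set T).Nonempty
  swap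
  · exact isBounded_empty fun L ⟨t, _, hm, _⟩ => hne ⟨_, hm⟩
  by_cases hirr : IsIrreducible (C : Set T)
  swap
  · obtain ⟨C₁, C₂, hC₁, hC₂, hcov⟩ : ∃ C₁ C₂ : Closeds T, C₁ < C ∧ C₂ < C ∧ (C : Set T) ⊆ C₁ ∪ C₂ := by
      have hp : ¬ IsPreirreducible (C : Set T) := fun hh => hirr ⟨hne, hh⟩
      rw [isPreirreducible_iff_isClosed_union_isClosed] at hp
      push_neg at hp
      obtain ⟨z₁, z₂, hz₁, hz₂, hs, hn₁, hn₂⟩ := hp
      exact ⟨C ⊓ ⟨z₁, hz₁⟩, C ⊓ ⟨z₂, hz₂⟩, inf_lt_left.2 hn₁, inf_lt_left.2 hn₂,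
        fun x hx => (hs hx).imp (fun h => ⟨hx, h⟩) fun h => ⟨hx, h⟩⟩
    refine isBounded_mono ?_ (isBounded_union (ih C₁ hC₁) (ih C₂ hC₂))
    rintro L ⟨t, ht, hm, hR⟩
    exact (hcov hm).imp (fun h => ⟨t, ht, h, hR⟩) fun h => ⟨t, ht, h, hR⟩
  let ξ := hirr.genericPoint
  have hC : closure {ξ} = (C : Set T) := hirr.isGenericPoint_genericPoint C.isClosed
  let J := Scheme.IdealSheafData.vanishingIdeal (Closeds.closure {ξ})
  haveI := QCoh.isIntegral_closure_point (X := T) ξ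
  have hrange : Set.range J.subschemeι = (C : Set T) :=
    (Groth.Agent.H23.RedSub.range_vanishingIdeal _).trans hC
  obtain ⟨z⟩ := (inferInstance : Nonempty J.subscheme)
  obtain ⟨_, ⟨(W : J.subscheme.Opens), hW, rfl⟩, hzW, -⟩ :=
    J.subscheme.isBasis_affineOpens.exists_subset_of_mem_open (Set.mem_univ z) isOpen_univ
  haveI : IsAffine W.toScheme := hW
  haveI : Nonempty W.toScheme := ⟨⟨z, hzW⟩⟩
  haveI : IsIntegral W.toScheme := isIntegral_of_isOpenImmersion W.ι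
  haveI : CompactSpace W.toScheme := isCompact_iff_compactSpace.1 hW.isCompact
  let j := W.ι ≫ J.subschemeι
  haveI : QuasiCompact (j ≫ q) := (quasiCompact_iff_compactSpace _).2 inferInstance
  obtain ⟨U, hUne, hbU⟩ := h W.toScheme j (j ≫ q) rfl
  obtain ⟨O, hO, hOU⟩ := J.subschemeι.isClosedEmbedding.isInducing.isOpen_iff.1 (W.ι ''ᵁ U).2
  have hlt : C ⊓ ⟨Oᶜ, hO.isClosed_compl⟩ < C := by
    refine inf_lt_left.2 fun hle => ?_
    obtain ⟨u, hu⟩ := hUne
    have h1 : J.subschemeι (W.ι u) ∈ O := by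
      have : W.ι u ∈ J.subschemeι ⁻¹' O := by rw [hOU]; exact ⟨u, hu, rfl⟩
      exact this
    exact hle (show J.subschemeι (W.ι u) ∈ (C : Set T) by rw [← hrange]; exact ⟨_, rfl⟩) h1
  refine isBounded_mono ?_ (isBounded_union hbU (ih _ hlt))
  rintro L ⟨t, ht, hm, hR⟩
  by_cases hmO : t (IsLocalRing.closedPoint k) ∈ O
  · left
    rw [← hrange] at hm
    obtain ⟨y, hy⟩ := hm
    have hyU : y ∈ ((W.ι ''ᵁ U : J.subscheme.Opens) : Set J.subscheme) := by
      show y ∈ (W.ι ''ᵁ U).carrier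
      rw [← hOU]
      show J.subschemeι y ∈ O
      rw [hy]
      exact hmO
    obtain ⟨u, hu, rfl⟩ := hyU
    obtain ⟨t', ht'⟩ := exists_lift_preimmersion j t u hy
    refine ⟨t', by rw [← Category.assoc, ht', ht], ?_, by rw [ht']; exact hR⟩
    have he : j (t' (IsLocalRing.closedPoint k)) = j u := by
      rw [show j (t' (IsLocalRing.closedPoint k)) = (t' ≫ j) (IsLocalRing.closedPoint k) from rfl, ht']
      exact hy.symm
    rw [(Scheme.Hom.isEmbedding j).injective he]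
    exact hu
  · exact Or.inr ⟨t, ht, ⟨hm, hmO⟩, hR⟩

end Groth.Agent.Pic13Lib.Bdd
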