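import Groth.Agent.ExistEasy.PP.PullSec
import Groth.Agent.QCoh.SubCompare
import Groth.Agent.QCoh.Devissage

/-!
# The base change map of direct images of modules along a commutative square
-/

set_option autoImplicit false
set_option linter.style.haveILetI false
set_option linter.unusedSectionVars false
set_option backward.isDefEq.respectTransparency false
set_option backward.isDefEq.respectTransparency.types false
set_option maxHeartbeats 1000000

universe u

open CategoryTheory CategoryTheory.Limits AlgebraicGeometry TopologicalSpace Opposite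

noncomputable section

namespace Groth.Agent.Pic13Lib.Bdd

open Groth.Agent

variable {P X P' X' : Scheme.{u}}

/-- Maps out of a pullback are determined on pulled back sections. -/
theorem hom_ext_pullSec (g : X' ⟶ X) {M : X.Modules} {N : X'.Modules} (a b : (Scheme.Modules.pullback g).obj M ⟶ N)
    (h : ∀ (V : X.Opens) (x : Γ(M, V)),
      a.app (g ⁻¹ᵁ V) (QCoh.pullSec g M le_rfl x) = b.app (g ⁻¹ᵁ V) (QCoh.pullSec g M le_rfl x)) : a = b := by
  refine ((Scheme.Modules.pullbackPushforwardAdjunction g).homEquiv M N).injective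
    (Scheme.Modules.hom_ext _ _ fun V => ?_)
  refine ConcreteCategory.hom_ext _ _ fun x => ?_
  rw [Adjunction.homEquiv_unit, Adjunction.homEquiv_unit]
  have e : QCoh.pullSec g M (le_refl (g ⁻¹ᵁ V)) x =
      ((Scheme.Modules.pullbackPushforwardAdjunction g).unit.app M).app V x :=
    QCoh.map_id' (M := (Scheme.Modules.pullback g).obj M) _ _
  have h' := h V x
  rw [e] at h'
  exact h'

theorem homEquiv_app (g : X' ⟶ X) {M : X.Modules} {N : X'.Modules} (a : (Scheme.Modules.pullback g).obj M ⟶ N)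
    (V : X.Opens) (x : Γ(M, V)) :
    ((Scheme.Modules.pullbackPushforwardAdjunction g).homEquiv M N a).app V x =
      a.app (g ⁻¹ᵁ V) (QCoh.pullSec g M le_rfl x) := by
  rw [Adjunction.homEquiv_unit]
  exact congrArg (a.app (g ⁻¹ᵁ V)) (QCoh.map_id' (M := (Scheme.Modules.pullback g).obj M) _ _).symm

/-- Maps out of a twofold pullback are determined on pulled back sections. -/
theorem hom_ext_pullSec₂ {X'' : Scheme.{u}} (g : X' ⟶ X) (g₁ : X'' ⟶ X') {M : X.Modules} {N : X''.Modules}
    (a b : (Scheme.Modules.pullback g₁).obj ((Scheme.Modules.pullback g).obj M) ⟶ N)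
    (h : ∀ (V : X.Opens) (x : Γ(M, V)),
      a.app (g₁ ⁻¹ᵁ (g ⁻¹ᵁ V)) (QCoh.pullSec g₁ _ le_rfl (QCoh.pullSec g M le_rfl x)) =
        b.app (g₁ ⁻¹ᵁ (g ⁻¹ᵁ V)) (QCoh.pullSec g₁ _ le_rfl (QCoh.pullSec g M le_rfl x))) : a = b := by
  refine ((Scheme.Modules.pullbackPushforwardAdjunction g₁).homEquiv _ _).injective ?_
  refine hom_ext_pullSec g _ _ fun V x => ?_
  exact (homEquiv_app g₁ a _ _).trans ((h V x).trans (homEquiv_app g₁ b _ _).symm)

variable (f : P ⟶ X) (f' : P' ⟶ X') (g : X' ⟶ X) (g' : P' ⟶ P) (w : g' ≫ f = f' ≫ g)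

/-- The two orders of direct image around a square. -/
def gam : Scheme.Modules.pushforward g' ⋙ Scheme.Modules.pushforward f ≅
    Scheme.Modules.pushforward f' ⋙ Scheme.Modules.pushforward g :=
  Scheme.Modules.pushforwardComp g' f ≪≫ Scheme.Modules.pushforwardCongr w ≪≫
    (Scheme.Modules.pushforwardComp f' g).symm

/-- The base change map. -/
def beta (M : P.Modules) : (Scheme.Modules.pullback g).obj ((Scheme.Modules.pushforward f).obj M) ⟶
    (Scheme.Modules.pushforward f').obj ((Scheme.Modules.pullback g').obj M) :=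
  ((Scheme.Modules.pullbackPushforwardAdjunction g).homEquiv _ _).symm
    ((Scheme.Modules.pushforward f).map ((Scheme.Modules.pullbackPushforwardAdjunction g').unit.app M) ≫
      (gam f f' g g' w).hom.app _)

theorem homEquiv_beta (M : P.Modules) :
    (Scheme.Modules.pullbackPushforwardAdjunction g).homEquiv _ _ (beta f f' g g' w M) =
      (Scheme.Modules.pushforward f).map ((Scheme.Modules.pullbackPushforwardAdjunction g').unit.app M) ≫
        (gam f f' g g' w).hom.app _ :=
  Equiv.apply_symm_apply _ _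

theorem beta_natural {M N : P.Modules} (φ : M ⟶ N) :
    (Scheme.Modules.pullback g).map ((Scheme.Modules.pushforward f).map φ) ≫ beta f f' g g' w N =
      beta f f' g g' w M ≫ (Scheme.Modules.pushforward f').map ((Scheme.Modules.pullback g').map φ) := by
  apply ((Scheme.Modules.pullbackPushforwardAdjunction g).homEquiv _ _).injective
  rw [Adjunction.homEquiv_naturality_left, homEquiv_beta, Adjunction.homEquiv_naturality_right, homEquiv_beta,
    Category.assoc, ← Category.assoc, ← Functor.map_comp]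
  rw [show φ ≫ (Scheme.Modules.pullbackPushforwardAdjunction g').unit.app N =
    (Scheme.Modules.pullbackPushforwardAdjunction g').unit.app M ≫
      (Scheme.Modules.pushforward g').map ((Scheme.Modules.pullback g').map φ) from
    (Scheme.Modules.pullbackPushforwardAdjunction g').unit.naturality φ, Functor.map_comp, Category.assoc]
  exact congrArg (_ ≫ ·) ((gam f f' g g' w).hom.naturality ((Scheme.Modules.pullback g').map φ))

include w in
theorem le_preimage {V : X.Opens} {W : X'.Opens} (hle : W ≤ g ⁻¹ᵁ V) : f' ⁻¹ᵁ W ≤ g' ⁻¹ᵁ (f ⁻¹ᵁ V) :=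
  fun p hp => by
    show f (g' p) ∈ V
    rw [show f (g' p) = g (f' p) from congr($(w).base p)]
    exact hle hp

/-- The base change map on pulled back sections. -/
theorem beta_app (M : P.Modules) {V : X.Opens} {W : X'.Opens} (hle : W ≤ g ⁻¹ᵁ V) (x : Γ(M, f ⁻¹ᵁ V)) :
    (beta f f' g g' w M).app W (QCoh.pullSec g ((Scheme.Modules.pushforward f).obj M) hle x) =
      QCoh.pullSec g' M (le_preimage f f' g g' w hle) x := by
  have h1 := congrArg (fun φ => Scheme.Modules.Hom.app φ V x) (homEquiv_beta f f' g g' w M)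
  rw [Adjunction.homEquiv_unit] at h1
  unfold QCoh.pullSec
  refine (QCoh.map_app_comm (beta f f' g g' w M) (homOfLE hle) _).trans ?_
  refine (congrArg (((Scheme.Modules.pushforward f').obj ((Scheme.Modules.pullback g').obj M)).presheaf.map
    (homOfLE hle).op) h1).trans ?_
  refine Eq.trans ?_ ((QCoh.map_map (M := (Scheme.Modules.pullback g').obj M)
    (homOfLE ((Opens.map f'.base).monotone hle)) (eqToHom ?_) _).trans
      (congrArg (fun i => ((Scheme.Modules.pullback g').obj M).presheaf.map (Quiver.Hom.op i)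
        (((Scheme.Modules.pullbackPushforwardAdjunction g').unit.app M).app (f ⁻¹ᵁ V) x)) (Subsingleton.elim _ _)))
  · rfl
  · exact congrArg (fun h : P' ⟶ X => h ⁻¹ᵁ V) w.symm

/-- A map to a direct image comes from a map of the pullback. -/
theorem exists_psi (A : X.Modules) {G₀ : P'.Modules}
    (φ₀ : (Scheme.Modules.pullback g).obj A ⟶ (Scheme.Modules.pushforward f').obj G₀) :
    ∃ ψ₀ : (Scheme.Modules.pullback g').obj ((Scheme.Modules.pullback f).obj A) ⟶ G₀,
      (Scheme.Modules.pullback g).map ((Scheme.Modules.pullbackPushforwardAdjunction f).unit.app A) ≫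
        beta f f' g g' w _ ≫ (Scheme.Modules.pushforward f').map ψ₀ = φ₀ := by
  let af := Scheme.Modules.pullbackPushforwardAdjunction f
  let ag := Scheme.Modules.pullbackPushforwardAdjunction g
  let ag' := Scheme.Modules.pullbackPushforwardAdjunction g'
  refine ⟨(ag'.homEquiv _ _).symm ((af.homEquiv _ _).symm (ag.homEquiv _ _ φ₀ ≫ (gam f f' g g' w).inv.app G₀)), ?_⟩
  generalize hψ : (ag'.homEquiv _ _).symm ((af.homEquiv _ _).symm (ag.homEquiv _ _ φ₀ ≫
    (gam f f' g g' w).inv.app G₀)) = ψ₀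
  have h2 : af.unit.app A ≫ (Scheme.Modules.pushforward f).map (ag'.homEquiv _ _ ψ₀) =
      ag.homEquiv _ _ φ₀ ≫ (gam f f' g g' w).inv.app G₀ := by
    refine (af.homEquiv_unit (f := ag'.homEquiv _ _ ψ₀)).symm.trans ?_
    rw [← hψ, Equiv.apply_symm_apply, Equiv.apply_symm_apply]
  apply (ag.homEquiv _ _).injective
  refine (ag.homEquiv_naturality_left _ _).trans ?_
  refine (congrArg (af.unit.app A ≫ ·) ((ag.homEquiv_naturality_right _ _).trans
    ((congrArg (· ≫ _) (homEquiv_beta f f' g g' w _)).trans (Category.assoc _ _ _)))).trans ?_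
  have h3 : (gam f f' g g' w).hom.app ((Scheme.Modules.pullback g').obj ((Scheme.Modules.pullback f).obj A)) ≫
      (Scheme.Modules.pushforward g).map ((Scheme.Modules.pushforward f').map ψ₀) =
      (Scheme.Modules.pushforward f).map ((Scheme.Modules.pushforward g').map ψ₀) ≫ (gam f f' g g' w).hom.app G₀ :=
    ((gam f f' g g' w).hom.naturality ψ₀).symm
  refine (congrArg (fun z => af.unit.app A ≫ (Scheme.Modules.pushforward f).map _ ≫ z) h3).trans ?_
  refine (congrArg (af.unit.app A ≫ ·) ((Category.assoc _ _ _).symm.trans (congrArg (· ≫ _)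
    (((Scheme.Modules.pushforward f).map_comp _ _).symm.trans
      (congrArg ((Scheme.Modules.pushforward f).map) (ag'.homEquiv_unit (f := ψ₀)).symm))))).trans ?_
  refine (Category.assoc _ _ _).symm.trans ((congrArg (· ≫ _) h2).trans ((Category.assoc _ _ _).trans ?_))
  exact (congrArg (_ ≫ ·) ((gam f f' g g' w).inv_hom_id_app G₀)).trans (Category.comp_id _)

/-- The composed pullback. -/
abbrev pc {Y Z W : Scheme.{u}} (a : Y ⟶ Z) (b : Z ⟶ W) {c : Y ⟶ W} (e : a ≫ b = c) (M : W.Modules) :
    (Scheme.Modules.pullback a).obj ((Scheme.Modules.pullback b).obj M) ≅ (Scheme.Modules.pullback c).obj M :=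
  (Scheme.Modules.pullbackComp a b).app M ≪≫ (Scheme.Modules.pullbackCongr e).app M

/-- Base change maps paste. -/
theorem beta_paste {P'' X'' : Scheme.{u}} (f'' : P'' ⟶ X'') (g₁ : X'' ⟶ X') (g₁' : P'' ⟶ P')
    (w₁ : g₁' ≫ f' = f'' ≫ g₁) {g₀ : X'' ⟶ X} {g₀' : P'' ⟶ P} (e : g₁ ≫ g = g₀) (e' : g₁' ≫ g' = g₀')
    (w₀ : g₀' ≫ f = f'' ≫ g₀) (M : P.Modules) :
    (Scheme.Modules.pullback g₁).map (beta f f' g g' w M) ≫ beta f' f'' g₁ g₁' w₁ _ ≫
        (Scheme.Modules.pushforward f'').map (pc g₁' g' e' M).hom =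
      (pc g₁ g e ((Scheme.Modules.pushforward f).obj M)).hom ≫ beta f f'' g₀ g₀' w₀ M := by
  subst e e'
  refine hom_ext_pullSec₂ g g₁ _ _ fun V x => ?_
  have hV : g₁ ⁻¹ᵁ (g ⁻¹ᵁ V) ≤ (g₁ ≫ g) ⁻¹ᵁ V := le_rfl
  show ((Scheme.Modules.pushforward f'').map (pc g₁' g' rfl M).hom).app _
      ((beta f' f'' g₁ g₁' w₁ _).app _ (((Scheme.Modules.pullback g₁).map (beta f f' g g' w M)).app _ _)) =
    (beta f f'' (g₁ ≫ g) (g₁' ≫ g') w₀ M).app _ ((pc g₁ g rfl _).hom.app _ _)
  rw [ExistEasy.pullSec_natural, beta_app, beta_app]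
  have h1 : (pc g₁ g rfl ((Scheme.Modules.pushforward f).obj M)).hom.app (g₁ ⁻¹ᵁ (g ⁻¹ᵁ V))
      (QCoh.pullSec g₁ _ le_rfl (QCoh.pullSec g ((Scheme.Modules.pushforward f).obj M) le_rfl x)) =
      QCoh.pullSec (g₁ ≫ g) ((Scheme.Modules.pushforward f).obj M) hV x :=
    ExistEasy.pullSec_comp g₁ g _ le_rfl le_rfl x
  refine Eq.trans ?_ (congrArg ((beta f f'' (g₁ ≫ g) (g₁' ≫ g') w₀ M).app _) h1).symm
  refine Eq.trans ?_ (beta_app f f'' (g₁ ≫ g) (g₁' ≫ g') w₀ M hV x).symm
  exact ExistEasy.pullSec_comp g₁' g' M _ _ x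

/-- Isomorphy of maps of quasi-coherent modules is checked on an affine cover. -/
theorem isIso_of_cover {Y : Scheme.{u}} {M N : Y.Modules} (hM : Coh.IsQCoh M) (hN : Coh.IsQCoh N) (φ : M ⟶ N)
    {κ : Type*} (U : κ → Y.Opens) (haff : ∀ i, IsAffineOpen (U i)) (hU : ∀ y : Y, ∃ i, y ∈ U i)
    (h : ∀ i, Function.Bijective (φ.app (U i))) : IsIso φ := by
  haveI : Mono φ := Preadditive.mono_of_kernel_zero (QCoh.hom_eq_zero_of_cover (QCoh.isQCoh_kernel hM hN φ) hM _
    U haff hU fun i x => (h i).1 (by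
      rw [map_zero]
      exact congr(($(kernel.condition φ)).app (U i) x)))
  haveI : Epi φ := Preadditive.epi_of_cokernel_zero (QCoh.hom_eq_zero_of_cover hN (QCoh.isQCoh_cokernel hM hN φ) _
    U haff hU fun i y => by
      obtain ⟨x, rfl⟩ := (h i).2 y
      exact congr(($(cokernel.condition φ)).app (U i) x))
  exact isIso_of_mono_of_epi φ

end Groth.Agent.Pic13Lib.Bdd
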