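import Groth.Agent.KFlatLib.Scheme.PullTensorCx
import Groth.Agent.Pic13Lib.Bdd.Beta

/-!
# Pullback of twists and composition of pullbacks
-/

set_option autoImplicit false
set_option linter.style.haveILetI false
set_option linter.unusedSectionVars false
set_option backward.isDefEq.respectTransparency false
set_option backward.isDefEq.respectTransparency.types false
set_option maxHeartbeats 1000000

universe u

open CategoryTheory CategoryTheory.Limits AlgebraicGeometry TopologicalSpace Opposite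

noncomputable section

namespace Groth.Agent.Pic13Lib.Bdd

open Groth.Agent Groth.Agent.KFlatLib

variable {Y Z W : Scheme.{u}}

/-- Pullback of a tensor product. -/
abbrev pT (f : Y ⟶ Z) (M N : Z.Modules) :
    (Scheme.Modules.pullback f).obj ((DCoh.tensorBi.obj M).obj N) ≅
      (DCoh.tensorBi.obj ((Scheme.Modules.pullback f).obj M)).obj ((Scheme.Modules.pullback f).obj N) :=
  ((pullTensorBiIso f).app M).app N

theorem pT_hom (f : Y ⟶ Z) (M N : Z.Modules) : (pT f M N).hom = pullTensorHom f M N := rfl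

theorem pT_natural (f : Y ⟶ Z) (M : Z.Modules) {N N' : Z.Modules} (φ : N ⟶ N') :
    (Scheme.Modules.pullback f).map ((DCoh.tensorBi.obj M).map φ) ≫ (pT f M N').hom =
      (pT f M N).hom ≫ (DCoh.tensorBi.obj _).map ((Scheme.Modules.pullback f).map φ) :=
  ((pullTensorBiIso f).hom.app M).naturality φ

theorem pb_eq_pullSec (f : Y ⟶ Z) (M : Z.Modules) {V : Z.Opens} (x : Γ(M, V)) :
    (show Γ((Scheme.Modules.pullback f).obj M, f ⁻¹ᵁ V) from pb f (M := M) (U := V) x) =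
      QCoh.pullSec f M le_rfl x :=
  (QCoh.map_id' (M := (Scheme.Modules.pullback f).obj M) _ _).symm

theorem pc_pb (a : Y ⟶ Z) (b : Z ⟶ W) (M : W.Modules) {V : W.Opens} (x : (DCoh.toP.obj M).obj (op V)) :
    (DCoh.toP.map (pc a b rfl M).hom).app (op (a ⁻¹ᵁ (b ⁻¹ᵁ V))) (pb a (pb b x)) = pb (a ≫ b) x := by
  have h := ExistEasy.pullSec_comp a b M (le_refl (b ⁻¹ᵁ V)) (le_refl (a ⁻¹ᵁ (b ⁻¹ᵁ V))) x
  refine Eq.trans ?_ (h.trans (pb_eq_pullSec (a ≫ b) M x).symm)
  refine congrArg ((pc a b rfl M).hom.app (a ⁻¹ᵁ (b ⁻¹ᵁ V))) ?_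
  exact (congrArg (pb a (M := (Scheme.Modules.pullback b).obj M) (U := b ⁻¹ᵁ V)) (pb_eq_pullSec b M x)).trans
    (pb_eq_pullSec a _ _)

/-- Pullback of twists is compatible with composition. -/
theorem pT_comp (a : Y ⟶ Z) (b : Z ⟶ W) {c : Y ⟶ W} (e : a ≫ b = c) (M N : W.Modules) :
    (Scheme.Modules.pullback a).map (pT b M N).hom ≫ (pT a _ _).hom ≫
        (DCoh.tensorBi.obj _).map (pc a b e N).hom ≫ (DCoh.tensorBi.map (pc a b e M).hom).app _ =
      (pc a b e ((DCoh.tensorBi.obj M).obj N)).hom ≫ (pT c M N).hom := by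
  subst e
  rw [← Iso.inv_comp_eq]
  refine pullback_tensor_ext (a ≫ b) fun V s t => ?_
  have hx : (DCoh.toP.map (pc a b rfl ((DCoh.tensorBi.obj M).obj N)).inv).app (op ((a ≫ b) ⁻¹ᵁ V))
      (pb (a ≫ b) (tmSh M N s t)) = pb a (pb b (tmSh M N s t)) := by
    rw [← pc_pb]
    exact congrArg (fun φ => (DCoh.toP.map φ).app (op (a ⁻¹ᵁ (b ⁻¹ᵁ V))) (pb a (pb b (tmSh M N s t))))
      (pc a b rfl ((DCoh.tensorBi.obj M).obj N)).hom_inv_id
  show (DCoh.toP.map ((DCoh.tensorBi.map (pc a b rfl M).hom).app _)).app _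
    ((DCoh.toP.map ((DCoh.tensorBi.obj _).map (pc a b rfl N).hom)).app _
      ((DCoh.toP.map (pullTensorHom a _ _)).app _
        ((DCoh.toP.map ((Scheme.Modules.pullback a).map (pullTensorHom b M N))).app _
          ((DCoh.toP.map (pc a b rfl ((DCoh.tensorBi.obj M).obj N)).inv).app _ _)))) = _
  rw [hx]
  have h1 : (DCoh.toP.map ((Scheme.Modules.pullback a).map (pullTensorHom b M N))).app (op (a ⁻¹ᵁ (b ⁻¹ᵁ V)))
      (pb a (pb b (tmSh M N s t))) = pb a (tmSh _ _ (pb b s) (pb b t)) := by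
    rw [← pb_naturality, pullTensorHom_pb]
  refine (congrArg (fun z => (DCoh.toP.map ((DCoh.tensorBi.map (pc a b rfl M).hom).app _)).app (op (a ⁻¹ᵁ (b ⁻¹ᵁ V)))
    ((DCoh.toP.map ((DCoh.tensorBi.obj _).map (pc a b rfl N).hom)).app (op (a ⁻¹ᵁ (b ⁻¹ᵁ V)))
      ((DCoh.toP.map (pullTensorHom a _ _)).app (op (a ⁻¹ᵁ (b ⁻¹ᵁ V))) z))) h1).trans ?_
  rw [pullTensorHom_pb, tmSh_naturality_right, tmSh_naturality_left, pc_pb, pc_pb]
  exact (pullTensorHom_pb (a ≫ b) M N s t).symm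

end Groth.Agent.Pic13Lib.Bdd
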