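import Groth.Agent.Pic13Lib.Bdd.GenBC
import Groth.Agent.Pic13Lib.Bdd.TenPull
import Groth.Agent.H23.Chern.Dual

/-!
# A universal homomorphism over a polynomial ring
-/

set_option autoImplicit false
set_option linter.style.haveILetI false
set_option linter.unusedSectionVars false
set_option backward.isDefEq.respectTransparency false
set_option backward.isDefEq.respectTransparency.types false
set_option maxHeartbeats 2000000

universe u

open CategoryTheory CategoryTheory.Limits AlgebraicGeometry TopologicalSpace Opposite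
open Groth.Agent.H23 Groth.Agent.H23.PicMul

attribute [local instance] PicMul.clMonoid

noncomputable section

namespace Groth.Agent.Pic13Lib.Bdd

open Groth.Agent

theorem preserved_coker_lift {C D : Type*} [Category C] [Category D] [Abelian C] [Abelian D] (F : C ⥤ D)
    [F.Additive] [PreservesFiniteColimits F] {R B G : C} (π : R ⟶ B) (τ : R ⟶ G) [Epi (F.map π)]
    {G₀ : D} (eG : F.obj G ≅ G₀) (φ : F.obj B ⟶ G₀) (h : F.map τ ≫ eG.hom = F.map π ≫ φ) :
    ∃ b : F.obj (cokernel (biprod.lift π (-τ))) ≅ G₀,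
      F.map (biprod.inl ≫ cokernel.π (biprod.lift π (-τ))) ≫ b.hom = φ := by
  let v := biprod.lift π (-τ)
  let d : F.obj (B ⊞ G) ⟶ G₀ := F.map biprod.fst ≫ φ + F.map biprod.snd ≫ eG.hom
  have hvd : F.map v ≫ d = 0 := by
    simp only [d, v, Preadditive.comp_add, ← F.map_comp_assoc, biprod.lift_fst, biprod.lift_snd, Functor.map_neg,
      Preadditive.neg_comp, h, add_neg_cancel]
  have hv : v = π ≫ biprod.inl - τ ≫ biprod.inr := by
    refine biprod.hom_ext _ _ ?_ ?_ <;> simp [v]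
  let c := PreservesCokernel.iso F v
  let b₁ : cokernel (F.map v) ⟶ G₀ := cokernel.desc _ d hvd
  let b₂ : G₀ ⟶ cokernel (F.map v) := eG.inv ≫ F.map biprod.inr ≫ cokernel.π _
  have h21 : b₁ ≫ b₂ = 𝟙 _ := by
    refine (cancel_epi (cokernel.π (F.map v))).1 ?_
    rw [cokernel.π_desc_assoc, Category.comp_id]
    have hid : F.map (biprod.fst ≫ biprod.inl) + F.map (biprod.snd ≫ biprod.inr) = 𝟙 (F.obj (B ⊞ G)) := by
      rw [← F.map_add, biprod.total, F.map_id]
    have hz : F.map π ≫ F.map biprod.inl ≫ cokernel.π (F.map v) =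
        F.map π ≫ φ ≫ eG.inv ≫ F.map biprod.inr ≫ cokernel.π (F.map v) := by
      rw [← Category.assoc (F.map π) φ, ← h, Category.assoc, Iso.hom_inv_id_assoc, ← F.map_comp_assoc,
        ← F.map_comp_assoc, ← sub_eq_zero, ← Preadditive.sub_comp, ← F.map_sub, ← hv, cokernel.condition]
    rw [← Category.id_comp (cokernel.π (F.map v)), ← hid]
    simp only [d, b₂, Preadditive.add_comp, Category.assoc, F.map_comp, Iso.hom_inv_id_assoc]
    rw [← (cancel_epi (F.map π)).1 hz]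
  have h12 : b₂ ≫ b₁ = 𝟙 _ := by
    simp only [b₂, b₁, d, Category.assoc, cokernel.π_desc, Preadditive.comp_add, ← F.map_comp_assoc, biprod.inr_fst,
      biprod.inr_snd, F.map_zero, F.map_id, zero_comp, comp_zero, zero_add, Category.id_comp, Iso.inv_hom_id]
  refine ⟨c ≪≫ ⟨b₁, b₂, h21, h12⟩, ?_⟩
  show F.map (biprod.inl ≫ cokernel.π v) ≫ c.hom ≫ b₁ = φ
  rw [F.map_comp, Category.assoc, ← Category.assoc (F.map (cokernel.π v)) c.hom, PreservesCokernel.π_iso_hom,
    cokernel.π_desc]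
  simp only [d, Preadditive.comp_add, ← F.map_comp_assoc, biprod.inl_fst, biprod.inl_snd, F.map_zero, F.map_id,
    zero_comp, add_zero, Category.id_comp]

theorem hom_ext_free₂ {Y Z W : Scheme.{u}} (a : Y ⟶ Z) (b : Z ⟶ W) {r : ℕ} {N : Y.Modules}
    (f g : (Scheme.Modules.pullback a).obj ((Scheme.Modules.pullback b).obj (FlatMod.freeMod W r)) ⟶ N)
    (h : ∀ j : Fin r,
      f.app (a ⁻¹ᵁ (b ⁻¹ᵁ ⊤)) (QCoh.pullSec a _ le_rfl (QCoh.pullSec b _ le_rfl
        (InvX.one (Sigma.ι (fun _ : Fin r => Coh.structureModule W) j)))) =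
      g.app (a ⁻¹ᵁ (b ⁻¹ᵁ ⊤)) (QCoh.pullSec a _ le_rfl (QCoh.pullSec b _ le_rfl
        (InvX.one (Sigma.ι (fun _ : Fin r => Coh.structureModule W) j))))) : f = g := by
  refine ((Scheme.Modules.pullbackPushforwardAdjunction a).homEquiv _ _).injective ?_
  refine ((Scheme.Modules.pullbackPushforwardAdjunction b).homEquiv _ _).injective ?_
  refine Sigma.hom_ext _ _ fun j => SeesawX.hom_ext_one _ _ ?_
  exact ((homEquiv_app b _ ⊤ _).trans (homEquiv_app a f _ _)).trans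
    ((h j).trans ((homEquiv_app b _ ⊤ _).trans (homEquiv_app a g _ _)).symm)

theorem pc_pullSec {Y Z W : Scheme.{u}} (a : Y ⟶ Z) (b : Z ⟶ W) {c : Y ⟶ W} (e : a ≫ b = c) (N : W.Modules)
    (x : Γ(N, ⊤)) :
    (pc a b e N).hom.app (a ⁻¹ᵁ (b ⁻¹ᵁ ⊤)) (QCoh.pullSec a _ le_rfl (QCoh.pullSec b N le_rfl x)) =
      QCoh.pullSec c N le_top x := by
  subst e
  exact ExistEasy.pullSec_comp a b N le_rfl le_rfl x

theorem pullSec_sum {Y Z : Scheme.{u}} (f : Y ⟶ Z) (N : Z.Modules) {V : Z.Opens} {V' : Y.Opens}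
    (hle : V' ≤ f ⁻¹ᵁ V) {ι : Type*} (S : Finset ι) (g : ι → Γ(N, V)) :
    QCoh.pullSec f N hle (∑ l ∈ S, g l) = ∑ l ∈ S, QCoh.pullSec f N hle (g l) :=
  map_sum (AddMonoidHom.mk' (QCoh.pullSec f N hle) (QCoh.pullSec_add f N hle)) g S

theorem ring_map_id {Y : Scheme.{u}} {U : Y.Opens} (i : U ⟶ U) (s : Γ(Y, U)) : Y.presheaf.map i.op s = s := by
  rw [Subsingleton.elim i (𝟙 U)]
  exact ConcreteCategory.congr_hom (Y.presheaf.map_id (op U)) s

/-- Untwisting the universal map on a fibre. -/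
theorem exists_untwist {Y Z W : Scheme.{u}} (a : Y ⟶ Z) (u : Z ⟶ W) {c : Y ⟶ W} (e : a ≫ u = c)
    {M B G : W.Modules} (hM : PicF.IsInvertible M) {C C' : Z.Modules}
    (eC : (DCoh.tensorBi.obj ((Scheme.Modules.pullback u).obj M)).obj C ≅ C')
    (i : (Scheme.Modules.pullback u).obj ((DCoh.tensorBi.obj M).obj B) ⟶ C')
    (ι : (Scheme.Modules.pullback u).obj B ⟶ C)
    (hι : (DCoh.tensorBi.obj ((Scheme.Modules.pullback u).obj M)).map ι = (pT u M B).inv ≫ i ≫ eC.inv)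
    (φ : (Scheme.Modules.pullback c).obj B ⟶ (Scheme.Modules.pullback c).obj G)
    (b' : (Scheme.Modules.pullback a).obj C' ≅ (Scheme.Modules.pullback c).obj ((DCoh.tensorBi.obj M).obj G))
    (hb' : (Scheme.Modules.pullback a).map i ≫ b'.hom = (pc a u e _).hom ≫
      (pT c M B).hom ≫ (DCoh.tensorBi.obj _).map φ ≫ (pT c M G).inv) :
    ∃ b : (Scheme.Modules.pullback a).obj C ≅ (Scheme.Modules.pullback c).obj G,
      (Scheme.Modules.pullback a).map ι ≫ b.hom = (pc a u e B).hom ≫ φ := by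
  let F := Scheme.Modules.pullback a
  haveI := Chern.isEquivalence_ten (PicClLib.isInvertible_pullback a (PicClLib.isInvertible_pullback u hM))
  let T := DCoh.tensorBi.obj (F.obj ((Scheme.Modules.pullback u).obj M))
  let L : ∀ N : Y.Modules, T.obj N ≅ (DCoh.tensorBi.obj ((Scheme.Modules.pullback c).obj M)).obj N := fun N =>
    (DCoh.tensorBi.mapIso (pc a u e M)).app N
  let b : F.obj C ≅ (Scheme.Modules.pullback c).obj G :=
    T.preimageIso ((pT a _ C).symm ≪≫ F.mapIso eC ≪≫ b' ≪≫ pT c M G ≪≫ (L _).symm)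
  refine ⟨b, T.map_injective ?_⟩
  have hnat : T.map φ ≫ (L _).hom = (L _).hom ≫ (DCoh.tensorBi.obj _).map φ :=
    (DCoh.tensorBi.map (pc a u e M).hom).naturality φ
  have h1 : F.map (pT u M B).hom ≫ (pT a _ _).hom ≫ T.map (pc a u e B).hom ≫ (L _).hom =
      (pc a u e _).hom ≫ (pT c M B).hom := pT_comp a u e M B
  have h2 : T.map (F.map ι) = (pT a _ _).inv ≫ F.map ((DCoh.tensorBi.obj _).map ι) ≫ (pT a _ C).hom :=
    ((Iso.inv_comp_eq _).2 (pT_natural a _ ι)).symm
  have h3 : T.map b.hom = (pT a _ C).inv ≫ F.map eC.hom ≫ b'.hom ≫ (pT c M G).hom ≫ (L _).inv :=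
    T.map_preimage _
  have h4 : F.map i ≫ b'.hom ≫ (pT c M G).hom ≫ (L _).inv =
      F.map (pT u M B).hom ≫ (pT a _ _).hom ≫ T.map (pc a u e B).hom ≫ T.map φ := by
    rw [← cancel_mono (L ((Scheme.Modules.pullback c).obj G)).hom]
    simp only [Category.assoc, Iso.inv_hom_id, Category.comp_id]
    rw [hnat, reassoc_of% hb', Iso.inv_hom_id, Category.comp_id, reassoc_of% h1]
  rw [T.map_comp, T.map_comp, h2, h3, hι]
  simp only [Category.assoc, Iso.hom_inv_id_assoc, Functor.map_comp]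
  rw [← F.map_comp_assoc eC.inv eC.hom, Iso.inv_hom_id, F.map_id, Category.id_comp, h4,
    ← F.map_comp_assoc, Iso.inv_hom_id, F.map_id, Category.id_comp, Iso.inv_hom_id_assoc]

/-- The fibre of the universal map. -/
theorem exists_fibre_eq {Y Z W : Scheme.{u}} (a : Y ⟶ Z) (u : Z ⟶ W) {c : Y ⟶ W} (e : a ≫ u = c)
    {M B G R : W.Modules} (hM : PicF.IsInvertible M) (π : R ⟶ (DCoh.tensorBi.obj M).obj B) [Epi π]
    (τ : (Scheme.Modules.pullback u).obj R ⟶ (Scheme.Modules.pullback u).obj ((DCoh.tensorBi.obj M).obj G))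
    {C : Z.Modules}
    (eC : (DCoh.tensorBi.obj ((Scheme.Modules.pullback u).obj M)).obj C ≅
      cokernel (biprod.lift ((Scheme.Modules.pullback u).map π) (-τ)))
    (ι : (Scheme.Modules.pullback u).obj B ⟶ C)
    (hι : (DCoh.tensorBi.obj ((Scheme.Modules.pullback u).obj M)).map ι =
      (pT u M B).inv ≫ (biprod.inl ≫ cokernel.π (biprod.lift ((Scheme.Modules.pullback u).map π) (-τ))) ≫ eC.inv)
    (φ : (Scheme.Modules.pullback c).obj B ⟶ (Scheme.Modules.pullback c).obj G)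
    (key : (Scheme.Modules.pullback a).map τ ≫ (pc a u e _).hom =
      (Scheme.Modules.pullback a).map ((Scheme.Modules.pullback u).map π) ≫ (pc a u e _).hom ≫
        (pT c M B).hom ≫ (DCoh.tensorBi.obj _).map φ ≫ (pT c M G).inv) :
    ∃ b : (Scheme.Modules.pullback a).obj C ≅ (Scheme.Modules.pullback c).obj G,
      (Scheme.Modules.pullback a).map ι ≫ b.hom = (pc a u e B).hom ≫ φ := by
  haveI : (Scheme.Modules.pullback a).IsLeftAdjoint :=
    (Scheme.Modules.pullbackPushforwardAdjunction a).isLeftAdjoint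
  haveI : (Scheme.Modules.pullback u).IsLeftAdjoint :=
    (Scheme.Modules.pullbackPushforwardAdjunction u).isLeftAdjoint
  obtain ⟨b', hb'⟩ := preserved_coker_lift (Scheme.Modules.pullback a) ((Scheme.Modules.pullback u).map π) τ
    (pc a u e _) _ key
  exact exists_untwist a u e hM eC _ ι hι φ b' hb'

/-- The universal map exists. -/
theorem exists_univ_map {Z W : Scheme.{u}} (u : Z ⟶ W) {M B : W.Modules} (hM : PicF.IsInvertible M) {C C' : Z.Modules}
    (eC : (DCoh.tensorBi.obj ((Scheme.Modules.pullback u).obj M)).obj C ≅ C')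
    (i : (Scheme.Modules.pullback u).obj ((DCoh.tensorBi.obj M).obj B) ⟶ C') :
    ∃ ι : (Scheme.Modules.pullback u).obj B ⟶ C,
      (DCoh.tensorBi.obj ((Scheme.Modules.pullback u).obj M)).map ι = (pT u M B).inv ≫ i ≫ eC.inv := by
  haveI := Chern.isEquivalence_ten (PicClLib.isInvertible_pullback u hM)
  exact ⟨_, Functor.map_preimage _ _⟩

variable {k : Type u} [Field k] (P : Scheme.{u}) [P.Over (Spec (CommRingCat.of k))]
  [IsProper (P ↘ Spec (CommRingCat.of k))] {A : Type u} [CommRing A] [Algebra k A] [Algebra.FiniteType k A]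

theorem pullSec_rhoO_smul (ψ : A →ₐ[k] k) (G : (XA k P A).Modules) (a : A) (x : Γ(G, ⊤)) :
    QCoh.pullSec (slc P ψ) G (le_refl ((slc P ψ) ⁻¹ᵁ ⊤)) (rhoO (k := k) P (⊤ : (XA k P A).Opens) a • x) =
      (show Γ(P, (slc P ψ) ⁻¹ᵁ ⊤) from Coh.toGlobal (P ↘ Spec (CommRingCat.of k)) (ψ a)) •
        QCoh.pullSec (slc P ψ) G (le_refl ((slc P ψ) ⁻¹ᵁ ⊤)) x := by
  refine (QCoh.pullSec_smul _ _ _ _ _).trans (congrArg (· • _) ?_)
  rw [Scheme.Hom.appLE, CommRingCat.comp_apply, ← appTop_slc P ψ a]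
  exact (ring_map_id (Y := P) (homOfLE (le_refl ((slc P ψ) ⁻¹ᵁ ⊤))) _).trans
    (congrArg ((slc P ψ).app ⊤) (ring_map_id (Y := XA k P A) (homOfLE le_top) _))

/-- Homomorphisms between two families, after a twist by `M`, are the fibres of one over a polynomial ring. -/
theorem exists_univHom {B G M : (XA k P A).Modules} (hB : Coh.IsCoh B) (hG : Coh.IsCoh G)
    (hM : PicF.IsInvertible M) {r : ℕ} (π : FlatMod.freeMod (XA k P A) r ⟶ (DCoh.tensorBi.obj M).obj B) [Epi π]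
    (hsec : SecBC P ((DCoh.tensorBi.obj M).obj G) ⊤) :
    ∃ (σ : Type) (_ : Finite σ) (C : (XA k P (MvPolynomial σ A)).Modules)
      (ι : (Scheme.Modules.pullback (pmA (k := k) P A (MvPolynomial σ A))).obj B ⟶ C), Coh.IsCoh C ∧
      ∀ (ψ : A →ₐ[k] k) (φ : (Scheme.Modules.pullback (slc P ψ)).obj B ⟶ (Scheme.Modules.pullback (slc P ψ)).obj G),
        ∃ ψ'' : MvPolynomial σ A →ₐ[k] k, ψ''.comp (IsScalarTower.toAlgHom k A (MvPolynomial σ A)) = ψ ∧
          ∃ (e : slc P ψ'' ≫ pmA (k := k) P A (MvPolynomial σ A) = slc P ψ)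
            (b : (Scheme.Modules.pullback (slc P ψ'')).obj C ≅ (Scheme.Modules.pullback (slc P ψ)).obj G),
            (Scheme.Modules.pullback (slc P ψ'')).map ι ≫ b.hom = (pc _ _ e B).hom ≫ φ := by
  classical
  haveI : LocallyOfFiniteType (qA k A) := by
    rw [HasRingHomProperty.Spec_iff (P := @LocallyOfFiniteType)]
    exact RingHom.finiteType_algebraMap.2 inferInstance
  haveI := isLocallyNoetherian_prodK (X := P) (qA k A)
  haveI : IsNoetherianRing A := Algebra.FiniteType.isNoetherianRing k A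
  let B' := (DCoh.tensorBi.obj M).obj B
  let G' := (DCoh.tensorBi.obj M).obj G
  have hG' : Coh.IsCoh G' := AmpleVan.isCoh_tensor (AmpleVan.isCoh_invertible hM) hG
  have hB' : Coh.IsCoh B' := AmpleVan.isCoh_tensor (AmpleVan.isCoh_invertible hM) hB
  letI : (XA k P A).Over (Spec (CommRingCat.of A)) := ⟨piA k P A⟩
  haveI : IsProper ((XA k P A) ↘ Spec (CommRingCat.of A)) := MorphismProperty.pullback_snd _ _ inferInstance
  letI := QCoh.secModule (Coh.toGlobal (piA k P A)) G' ⊤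
  haveI : Module.Finite A Γ(G', ⊤) := FlatG.finite_gamma A hG'
  obtain ⟨s, h, hspan⟩ := Module.Finite.exists_fin (R := A) (M := Γ(G', ⊤))
  let σT := Fin r × Fin s
  let A'' := MvPolynomial σT A
  haveI : Algebra.FiniteType k A'' := Algebra.FiniteType.trans (S := A) inferInstance inferInstance
  haveI : LocallyOfFiniteType (qA k A'') := by
    rw [HasRingHomProperty.Spec_iff (P := @LocallyOfFiniteType)]
    exact RingHom.finiteType_algebraMap.2 inferInstance
  haveI := isLocallyNoetherian_prodK (X := P) (qA k A'')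
  let u := pmA (k := k) P A A''
  let Gu := (Scheme.Modules.pullback u).obj G'
  let τj : Fin r → Γ(Gu, u ⁻¹ᵁ ⊤) := fun j =>
    ∑ l, (rhoO (k := k) P (u ⁻¹ᵁ ⊤) (MvPolynomial.X (j, l) : A'')) • QCoh.pullSec u G' le_rfl (h l)
  obtain ⟨τ, hτ⟩ : ∃ τ : (Scheme.Modules.pullback u).obj (FlatMod.freeMod (XA k P A) r) ⟶ Gu, ∀ j,
      τ.app (u ⁻¹ᵁ ⊤) (QCoh.pullSec u _ le_rfl
        (InvX.one (Sigma.ι (fun _ : Fin r => Coh.structureModule (XA k P A)) j))) = τj j := by
    refine ⟨((Scheme.Modules.pullbackPushforwardAdjunction u).homEquiv _ _).symm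
      (Sigma.desc fun j => InvX.ofSect (M := (Scheme.Modules.pushforward u).obj Gu) (τj j)), fun j => ?_⟩
    refine (homEquiv_app u _ ⊤ _).symm.trans ?_
    refine (congrArg (fun f : FlatMod.freeMod (XA k P A) r ⟶ _ => f.app ⊤ _) (Equiv.apply_symm_apply _ _)).trans ?_
    exact (congrArg InvX.one (Sigma.ι_desc (fun j => InvX.ofSect
      (M := (Scheme.Modules.pushforward u).obj Gu) (τj j)) j)).trans
      (InvX.one_ofSect (M := (Scheme.Modules.pushforward u).obj Gu) (τj j))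
  let πu := (Scheme.Modules.pullback u).map π
  let v := biprod.lift πu (-τ)
  let C' := cokernel v
  have hBu : Coh.IsCoh ((Scheme.Modules.pullback u).obj B') := ZClosLib.isCoh_pullback _ hB'
  have hGu : Coh.IsCoh Gu := ZClosLib.isCoh_pullback _ hG'
  have hC' : Coh.IsCoh C' := QCoh.isCoh_cokernel (QCoh.isQCoh_pullback _ (QCoh16.isQCoh_free r))
    (KZ.isCoh_biprod hBu hGu) _
  let Mu := (Scheme.Modules.pullback u).obj M
  have hMu : PicF.IsInvertible Mu := PicClLib.isInvertible_pullback _ hM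
  obtain ⟨C, hC, ⟨eC⟩⟩ : ∃ C, Coh.IsCoh C ∧ Nonempty ((DCoh.tensorBi.obj Mu).obj C ≅ C') := by
    obtain ⟨N, hN, ⟨eN⟩⟩ := PicInv.exists_inverse hMu
    refine ⟨CohB1.tensorMod N C', AmpleVan.isCoh_tensor (AmpleVan.isCoh_invertible hN) hC', cl_eq_iff.1 ?_⟩
    show PicF.cl (CohB1.tensorMod Mu (CohB1.tensorMod N C')) = _
    rw [cl_tensor, cl_tensor, ← mul_assoc, ← cl_tensor, cl_eq_iff.2 ⟨eN⟩, ← PicMul.one_def, one_mul]
  obtain ⟨ι, hι⟩ := exists_univ_map u hM (B := B) (C := C) eC (biprod.inl ≫ cokernel.π v)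
  refine ⟨σT, inferInstance, C, ι, hC, fun ψ φ => ?_⟩
  let s₀ := slc P ψ
  let φ' : (Scheme.Modules.pullback s₀).obj B' ⟶ (Scheme.Modules.pullback s₀).obj G' :=
    (pT s₀ M B).hom ≫ (DCoh.tensorBi.obj _).map φ ≫ (pT s₀ M G).inv
  let σ : Fin r → Γ(B', ⊤) := fun j => π.app ⊤ (InvX.one (Sigma.ι (fun _ : Fin r => Coh.structureModule _) j))
  choose y hy using fun j => (hsec ψ).1 (φ'.app (s₀ ⁻¹ᵁ ⊤) (QCoh.pullSec s₀ B' le_rfl (σ j)))
  choose c hc using fun j => Submodule.mem_span_range_iff_exists_fun A |>.1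
    (hspan ▸ Submodule.mem_top : y j ∈ Submodule.span A (Set.range h))
  obtain ⟨ψ'', hψ, hX⟩ : ∃ ψ'' : A'' →ₐ[k] k, ψ''.comp (IsScalarTower.toAlgHom k A A'') = ψ ∧
      ∀ j l, ψ'' (MvPolynomial.X (j, l)) = ψ (c j l) := by
    let ev : A'' →+* k := MvPolynomial.eval₂Hom ψ.toRingHom fun v : σT => ψ (c v.1 v.2)
    have hev : ∀ x, ev (algebraMap k A'' x) = algebraMap k k x := fun x => by
      rw [IsScalarTower.algebraMap_apply k A A'']
      exact (MvPolynomial.eval₂Hom_C _ _ _).trans (ψ.commutes x)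
    exact ⟨{ ev with commutes' := hev }, AlgHom.ext fun x => MvPolynomial.eval₂Hom_C _ _ _,
      fun j l => MvPolynomial.eval₂Hom_X' _ _ _⟩
  let a := slc P ψ''
  have e : a ≫ u = s₀ := (slc_pmA P A A'' ψ'').trans (by rw [hψ])
  refine ⟨ψ'', hψ, e, ?_⟩
  let Fa := Scheme.Modules.pullback a
  haveI : Fa.IsLeftAdjoint := (Scheme.Modules.pullbackPushforwardAdjunction a).isLeftAdjoint
  haveI : (Scheme.Modules.pullback u).IsLeftAdjoint := (Scheme.Modules.pullbackPushforwardAdjunction u).isLeftAdjoint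
  haveI : Epi πu := inferInstanceAs (Epi ((Scheme.Modules.pullback u).map π))
  haveI : Epi (Fa.map πu) := inferInstance
  have key : Fa.map τ ≫ (pc a u e G').hom = Fa.map πu ≫ (pc a u e B').hom ≫ φ' := by
    refine hom_ext_free₂ a u _ _ fun j => ?_
    let g := InvX.one (Sigma.ι (fun _ : Fin r => Coh.structureModule (XA k P A)) j)
    show (pc a u e G').hom.app _ ((Fa.map τ).app _ (QCoh.pullSec a _ le_rfl (QCoh.pullSec u _ le_rfl g))) =
      φ'.app _ ((pc a u e B').hom.app _ ((Fa.map πu).app _ (QCoh.pullSec a _ le_rfl (QCoh.pullSec u _ le_rfl g))))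
    rw [ExistEasy.pullSec_natural, ExistEasy.pullSec_natural, ExistEasy.pullSec_natural]
    refine (congrArg (fun z => (pc a u e G').hom.app (a ⁻¹ᵁ (u ⁻¹ᵁ ⊤)) (QCoh.pullSec a Gu le_rfl z)) (hτ j)).trans ?_
    refine Eq.trans ?_ (congrArg (φ'.app (s₀ ⁻¹ᵁ ⊤)) (pc_pullSec a u e B' (σ j))).symm
    refine Eq.trans ?_ (hy j)
    refine (congrArg ((pc a u e G').hom.app (a ⁻¹ᵁ (u ⁻¹ᵁ ⊤))) (pullSec_sum a Gu _ _ _)).trans ?_
    refine (map_sum ((pc a u e G').hom.app (a ⁻¹ᵁ (u ⁻¹ᵁ ⊤))).hom _ _).trans ?_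
    refine Eq.trans ?_ (congrArg (QCoh.pullSec s₀ G' le_top) (hc j))
    refine Eq.trans ?_ (pullSec_sum s₀ G' _ Finset.univ fun l => c j l • h l).symm
    refine Finset.sum_congr rfl fun l _ => Eq.trans ?_ (pullSec_rhoO_smul P ψ G' (c j l) (h l)).symm
    refine (congrArg ((pc a u e G').hom.app (a ⁻¹ᵁ (u ⁻¹ᵁ ⊤))) (QCoh.pullSec_smul a Gu le_rfl _ _)).trans ?_
    refine (Scheme.Modules.Hom.app_smul (pc a u e G').hom _ _).trans ?_
    refine congrArg₂ (· • ·) ?_ (pc_pullSec a u e G' (h l))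
    rw [Scheme.Hom.appLE, CommRingCat.comp_apply,
      ← hX j l,
      ← appTop_slc P ψ'' (MvPolynomial.X (j, l))]
    exact (ring_map_id (Y := P) (homOfLE (le_refl ((slc P ψ'') ⁻¹ᵁ ⊤))) _).trans
      (congrArg ((slc P ψ'').app ⊤) (ring_map_id (Y := XA k P A'') (homOfLE le_top) _))
  exact exists_fibre_eq a u e hM π τ eC ι hι φ key

end Groth.Agent.Pic13Lib.Bdd
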