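import Groth.Agent.Pic13Lib.Bdd.Push
import Groth.Agent.Pic13Lib.Bdd.UnivHom
import Groth.Agent.AmpleX.Generated
import Groth.Agent.AmpleVan.Components
import Groth.Agent.Pic13Lib.BoundedReg

/-!
# Kernels of maps from a bounded family to a bounded family of direct images
-/

set_option autoImplicit false
set_option linter.style.haveILetI false
set_option linter.unusedSectionVars false
set_option backward.isDefEq.respectTransparency false
set_option backward.isDefEq.respectTransparency.types false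
set_option maxHeartbeats 2000000

universe u

open CategoryTheory CategoryTheory.Limits AlgebraicGeometry TopologicalSpace Opposite
open Groth.Agent.H23 Groth.Agent.H23.PicMul

noncomputable section

namespace Groth.Agent.Pic13Lib.Bdd

open Groth.Agent

variable {k : Type u} [Field k] {P X : Scheme.{u}} [P.Over (Spec (CommRingCat.of k))]
  [IsProper (P ↘ Spec (CommRingCat.of k))] [X.Over (Spec (CommRingCat.of k))]
  [IsProper (X ↘ Spec (CommRingCat.of k))] (q : P ⟶ X)
  (hq : q ≫ (X ↘ Spec (CommRingCat.of k)) = P ↘ Spec (CommRingCat.of k))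

omit [X.Over (Spec (CommRingCat.of k))] [IsProper (X ↘ Spec (CommRingCat.of k))] in
theorem secBC_of_iso {A : Type u} [CommRing A] [Algebra k A] {G G' : (XA k P A).Modules} (e : G ≅ G')
    {O : (XA k P A).Opens} (h : SecBC P G O) : SecBC P G' O := by
  intro ψ
  let F := Scheme.Modules.pullback (slc P ψ)
  have hnat : ∀ x : Γ(G, O), (F.map e.hom).app _ (QCoh.pullSec (slc P ψ) G (le_refl ((slc P ψ) ⁻¹ᵁ O)) x) =
      QCoh.pullSec (slc P ψ) G' le_rfl (e.hom.app O x) := ExistEasy.pullSec_natural _ e.hom _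
  have hb : Function.Bijective ((F.map e.hom).app ((slc P ψ) ⁻¹ᵁ O)) :=
    (ConcreteCategory.isIso_iff_bijective _).1 inferInstance
  have hx : ∀ x : Γ(G', O), e.hom.app O (e.inv.app O x) = x := fun x =>
    congrArg (fun f => Scheme.Modules.Hom.app f O x) e.inv_hom_id
  refine ⟨fun y => ?_, fun x h0 => ?_⟩
  · obtain ⟨z, rfl⟩ := hb.2 y
    obtain ⟨x, rfl⟩ := (h ψ).1 z
    exact ⟨_, (hnat x).symm⟩
  · have h1 : e.inv.app O x ∈ killed P ψ G O := (h ψ).2 _ (hb.1 (by rw [hnat, hx, h0, map_zero]))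
    let l : Γ(G, O) →ₗ[Γ(XA k P A, O)] Γ(G', O) :=
      { toFun := e.hom.app O
        map_add' := map_add (e.hom.app O).hom
        map_smul' := fun r z => Scheme.Modules.Hom.app_smul e.hom r z }
    have h2 := Submodule.mem_map_of_mem (f := l) h1
    rw [Submodule.map_smul''] at h2
    rw [← hx x]
    exact Submodule.smul_mono le_rfl le_top h2

theorem nonempty_pullback_free {Y Z : Scheme.{u}} (g : Y ⟶ Z) (r : ℕ) :
    Nonempty (FlatMod.freeMod Y r ≅ (Scheme.Modules.pullback g).obj (FlatMod.freeMod Z r)) := by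
  let G := Scheme.Modules.pullback g
  haveI : G.IsLeftAdjoint := (Scheme.Modules.pullbackPushforwardAdjunction g).isLeftAdjoint
  haveI : PreservesColimitsOfSize.{0, 0} G := inferInstance
  exact ⟨Sigma.mapIso (fun _ => (SeesawX.unitIso g).symm) ≪≫ (PreservesCoproduct.iso G _).symm⟩

theorem nonempty_arrow_push {C D : Type*} [Category C] [Category D] [HasZeroMorphisms D] [HasKernels D]
    {A A' : D} {M M' : C} (F : C ⥤ D) (a : A ≅ A') (b : M ≅ M') {f : A ⟶ F.obj M} {f' : A' ⟶ F.obj M'}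
    (w : f ≫ F.map b.hom = a.hom ≫ f') : Nonempty (kernel f ≅ kernel f') :=
  nonempty_kernel_arrow a (F.mapIso b) w

/-- Kernels of base-changed maps into a direct image form a bounded family. -/
theorem isBounded_kernel_beta {T : Scheme.{u}} (r : T ⟶ Spec (CommRingCat.of k)) [LocallyOfFiniteType r]
    [QuasiCompact r] {F : (Pic13.prodK k X r).Modules} (hF : Coh.IsCoh F) {C : (Pic13.prodK k P r).Modules}
    (hC : Coh.IsCoh C) (Φ : F ⟶ (Scheme.Modules.pushforward (qProd q hq r)).obj C) :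
    Pic13.IsBounded k X fun L => ∃ (t : Spec (CommRingCat.of k) ⟶ T) (ht : t ≫ r = 𝟙 _),
      Nonempty (kernel ((Scheme.Modules.pullback (Pic13.sliceAt k X r t ht)).map Φ ≫
        beta (qProd q hq r) q (Pic13.sliceAt k X r t ht) (Pic13.sliceAt k P r t ht) (slice_qProd q hq r t ht) C) ≅
          L) := by
  let R : (Spec (CommRingCat.of k) ⟶ T) → X.Modules → Prop := fun t L => ∃ ht : t ≫ r = 𝟙 _,
    Nonempty (kernel ((Scheme.Modules.pullback (Pic13.sliceAt k X r t ht)).map Φ ≫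
        beta (qProd q hq r) q (Pic13.sliceAt k X r t ht) (Pic13.sliceAt k P r t ht) (slice_qProd q hq r t ht) C) ≅
          L)
  refine isBounded_mono ?_ (isBounded_of_generic' X r R ?_)
  · rintro L ⟨t, ht, e⟩
    exact ⟨t, ht, ht, e⟩
  intro A _ _ _ _ j hj
  haveI : LocallyOfFiniteType (qA k A) := by
    rw [HasRingHomProperty.Spec_iff (P := @LocallyOfFiniteType)]
    exact RingHom.finiteType_algebraMap.2 inferInstance
  haveI := isLocallyNoetherian_prodK (X := P) (qA k A)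
  let CA := (Scheme.Modules.pullback (pm (X := P) j hj)).obj C
  have hCA : Coh.IsCoh CA := ZClosLib.isCoh_pullback _ hC
  obtain ⟨κ, _, V, hV, hcov⟩ := exists_affine_cover_fin k (X := X)
  obtain ⟨a, ha, -, hsec⟩ := exists_secBC P A hCA fun i => pieceOver q hq A (hV i)
  let A' := Localization.Away a
  haveI : Algebra.FiniteType k A' := Algebra.FiniteType.trans (S := A) inferInstance inferInstance
  haveI : LocallyOfFiniteType (qA k A') := by
    rw [HasRingHomProperty.Spec_iff (P := @LocallyOfFiniteType)]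
    exact RingHom.finiteType_algebraMap.2 inferInstance
  haveI := isLocallyNoetherian_prodK (X := P) (qA k A')
  haveI := isLocallyNoetherian_prodK (X := X) (qA k A')
  haveI := isProper_qProd q hq (qA k A')
  let j' := Spec.map (CommRingCat.ofHom (algebraMap A A')) ≫ j
  have hj' : j' ≫ r = qA k A' := by rw [Category.assoc, hj, qA_comp]
  let mP := pm (X := P) j' hj'
  let mX := pm (X := X) j' hj'
  let C' := (Scheme.Modules.pullback mP).obj C
  have hC' : Coh.IsCoh C' := ZClosLib.isCoh_pullback _ hC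
  have hmP : pmA (k := k) P A A' ≫ pm (X := P) j hj = mP := by
    refine pullback.hom_ext ?_ ?_
    · rw [Category.assoc, pullback.lift_fst, pullback.lift_fst, pullback.lift_fst]
    · rw [Category.assoc, pullback.lift_snd, pullback.lift_snd_assoc, pullback.lift_snd, Category.assoc]
  have hsec' : ∀ i, SecBC P C' (qProd q hq (qA k A') ⁻¹ᵁ above A' (V i)) := fun i => by
    have hO : pmA (k := k) P A A' ⁻¹ᵁ (qProd q hq (qA k A) ⁻¹ᵁ above A (V i)) =
        qProd q hq (qA k A') ⁻¹ᵁ above A' (V i) := by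
      have e : pmA (k := k) P A A' ≫ qProd q hq (qA k A) ≫ pullback.fst (X ↘ Spec (CommRingCat.of k)) (qA k A) =
          qProd q hq (qA k A') ≫ pullback.fst (X ↘ Spec (CommRingCat.of k)) (qA k A') := by
        rw [pullback.lift_fst, pullback.lift_fst, pullback.lift_fst_assoc]
      exact congrArg (fun h : XA k P A' ⟶ X => h ⁻¹ᵁ V i) e
    exact secBC_of_iso (pc _ _ hmP C) (hO ▸ hsec i)
  let w := (pm_qProd q hq r j' hj')
  let Φ' : (Scheme.Modules.pullback mX).obj F ⟶ (Scheme.Modules.pushforward (qProd q hq (qA k A'))).obj C' :=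
    (Scheme.Modules.pullback mX).map Φ ≫ beta (qProd q hq r) (qProd q hq (qA k A')) mX mP w C
  refine ⟨a, ha, isBounded_mono ?_ (isBounded_kernel X (qA k A') (ZClosLib.isCoh_pullback mX hF)
    (ExistEasy.isCoh_pushforward_proper (qProd q hq (qA k A')) hC') Φ')⟩
  rintro L ⟨ψ, hψ, ht, ⟨eL⟩⟩
  obtain ⟨ψ', hψ'⟩ := exists_lift_away a ψ hψ
  refine ⟨_, point_comp ψ', ?_⟩
  haveI := isIso_beta_slc q hq V hV hcov hC'.1 hsec' ψ'
  let β := beta (qProd q hq (qA k A')) q (slc X ψ') (slc P ψ') (slice_qProd q hq _ _ (point_comp ψ')) C'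
  have hpt : Spec.map (CommRingCat.ofHom ψ'.toRingHom) ≫ j' = Spec.map (CommRingCat.ofHom ψ.toRingHom) ≫ j := by
    rw [← hψ', ← Category.assoc, ← Spec.map_comp]
    rfl
  have eX : slc X ψ' ≫ mX = Pic13.sliceAt k X r _ ht :=
    (slice_pm j' hj' _ (point_comp ψ') (by rw [hpt, ht])).trans (by congr 1)
  have eP : slc P ψ' ≫ mP = Pic13.sliceAt k P r _ ht :=
    (slice_pm j' hj' _ (point_comp ψ') (by rw [hpt, ht])).trans (by congr 1)
  have hp := beta_paste (qProd q hq r) (qProd q hq (qA k A')) mX mP w q (slc X ψ') (slc P ψ')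
    (slice_qProd q hq _ _ (point_comp ψ')) eX eP (slice_qProd q hq r _ ht) C
  have hnat : (Scheme.Modules.pullback (slc X ψ')).map ((Scheme.Modules.pullback mX).map Φ) ≫
      (pc (slc X ψ') mX eX _).hom = (pc (slc X ψ') mX eX F).hom ≫ (Scheme.Modules.pullback _).map Φ :=
    (NatTrans.naturality ((Scheme.Modules.pullbackComp (slc X ψ') mX).hom ≫
      (Scheme.Modules.pullbackCongr eX).hom) Φ)
  obtain ⟨e₁⟩ := nonempty_arrow_push (Scheme.Modules.pushforward q) (pc (slc X ψ') mX eX F)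
    (pc (slc P ψ') mP eP C) (f := (Scheme.Modules.pullback (slc X ψ')).map Φ' ≫ β)
    (f' := (Scheme.Modules.pullback (Pic13.sliceAt k X r _ ht)).map Φ ≫
      beta (qProd q hq r) q _ _ (slice_qProd q hq r _ ht) C) (by
      simp only [Φ', Functor.map_comp, Category.assoc]
      rw [hp, reassoc_of% hnat])
  exact ⟨(kernelCompMono ((Scheme.Modules.pullback (slc X ψ')).map Φ') β).symm ≪≫ e₁ ≪≫ eL⟩

include hq in
/-- Kernels of maps from members of a bounded family to direct images of members of a bounded family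
from a projective scheme form a bounded family. -/
theorem isBounded_kernel_push {n : ℕ} (i : P ⟶ CohB1.ProjSpace n k) [IsClosedImmersion i]
    (hi : i ≫ CohB1.ProjSpace.toSpec n k = P ↘ Spec (CommRingCat.of k))
    {QX : X.Modules → Prop} (hX : Pic13.IsBounded k X QX) {QP : P.Modules → Prop} (hP : Pic13.IsBounded k P QP) :
    Pic13.IsBounded k X fun L => ∃ (A : X.Modules) (M : P.Modules), QX A ∧ QP M ∧
      ∃ φ : A ⟶ (Scheme.Modules.pushforward q).obj M, Nonempty (kernel φ ≅ L) := by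
  classical
  obtain ⟨T₁, r₁, h₁, h₁', F, hF, hFmem⟩ := hX
  obtain ⟨T₂, r₂, h₂, h₂', G, hG, hGmem⟩ := hP
  haveI := h₁; haveI := h₁'; haveI := h₂; haveI := h₂'
  let r := pullback.fst r₁ r₂ ≫ r₁
  have er : pullback.snd r₁ r₂ ≫ r₂ = r := pullback.condition.symm
  let FT := (Scheme.Modules.pullback (pm (X := X) (pullback.fst r₁ r₂) (q' := r) rfl)).obj F
  let GT := (Scheme.Modules.pullback (pm (X := P) (pullback.snd r₁ r₂) er)).obj G
  haveI := isLocallyNoetherian_prodK (X := X) r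
  haveI := isLocallyNoetherian_prodK (X := P) r
  have hFT : Coh.IsCoh FT := ZClosLib.isCoh_pullback _ hF
  have hGT : Coh.IsCoh GT := ZClosLib.isCoh_pullback _ hG
  let R : (Spec (CommRingCat.of k) ⟶ pullback r₁ r₂) → X.Modules → Prop := fun t L => ∃ ht : t ≫ r = 𝟙 _,
    ∃ φ : Pic13.fibreMod k X r t ht FT ⟶ (Scheme.Modules.pushforward q).obj (Pic13.fibreMod k P r t ht GT),
      Nonempty (kernel φ ≅ L)
  refine isBounded_mono ?_ (isBounded_of_generic' X r R ?_)
  · rintro L ⟨A, M, hA, hM, φ, ⟨eL⟩⟩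
    obtain ⟨t₁, ht₁, ⟨eA⟩⟩ := hFmem A hA
    obtain ⟨t₂, ht₂, ⟨eM⟩⟩ := hGmem M hM
    let w := pullback.lift t₁ t₂ (ht₁.trans ht₂.symm)
    have hw₁ : w ≫ pullback.fst r₁ r₂ = t₁ := pullback.lift_fst _ _ _
    have hw₂ : w ≫ pullback.snd r₁ r₂ = t₂ := pullback.lift_snd _ _ _
    have hw : w ≫ r = 𝟙 _ := by rw [← Category.assoc, hw₁, ht₁]
    obtain ⟨c₁⟩ := fibre_congr (X := X) r₁ hw₁ (by rw [hw₁, ht₁]) ht₁ F
    obtain ⟨c₂⟩ := fibre_congr (X := P) r₂ hw₂ (by rw [hw₂, ht₂]) ht₂ G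
    let aI := fibrePm (pullback.fst r₁ r₂) (q' := r) rfl w hw (by rw [hw₁, ht₁]) F ≪≫ c₁ ≪≫ eA
    let bI := fibrePm (pullback.snd r₁ r₂) er w hw (by rw [hw₂, ht₂]) G ≪≫ c₂ ≪≫ eM
    refine ⟨w, hw, hw, aI.hom ≫ φ ≫ (Scheme.Modules.pushforward q).map bI.inv, ?_⟩
    obtain ⟨e₁⟩ := nonempty_arrow_push (Scheme.Modules.pushforward q) aI bI
      (f := aI.hom ≫ φ ≫ (Scheme.Modules.pushforward q).map bI.inv) (f' := φ) (by
        rw [Category.assoc, Category.assoc, ← Functor.map_comp, Iso.inv_hom_id,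
          CategoryTheory.Functor.map_id, Category.comp_id])
    exact ⟨e₁ ≪≫ eL⟩
  intro A _ _ _ _ j hj
  haveI : IsNoetherianRing A := Algebra.FiniteType.isNoetherianRing k A
  haveI : LocallyOfFiniteType (qA k A) := by
    rw [HasRingHomProperty.Spec_iff (P := @LocallyOfFiniteType)]
    exact RingHom.finiteType_algebraMap.2 inferInstance
  haveI := isLocallyNoetherian_prodK (X := P) (qA k A)
  haveI := isLocallyNoetherian_prodK (X := X) (qA k A)
  haveI : IsProper (piA k P A) := MorphismProperty.pullback_snd _ _ inferInstance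
  let FA := (Scheme.Modules.pullback (pm (X := X) j hj)).obj FT
  let GA := (Scheme.Modules.pullback (pm (X := P) j hj)).obj GT
  let qP := qProd q hq (qA k A)
  let BA := (Scheme.Modules.pullback qP).obj FA
  have hFA : Coh.IsCoh FA := ZClosLib.isCoh_pullback _ hFT
  have hGA : Coh.IsCoh GA := ZClosLib.isCoh_pullback _ hGT
  have hBA : Coh.IsCoh BA := ZClosLib.isCoh_pullback _ hFA
  -- an ample invertible module on `P` over `A`
  haveI : CompactSpace P := AmpleVan.compactSpace_of_proper (A := k)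
  haveI : CompactSpace (XA k P A) := QuasiCompact.compactSpace_of_compactSpace (piA k P A)
  haveI : (XA k P A).IsSeparated := ⟨by
    rw [← Limits.terminal.comp_from (piA k P A)]
    infer_instance⟩
  haveI : IsNoetherian (XA k P A) := ⟨⟩
  haveI : IsAffineHom (pullback.fst (P ↘ Spec (CommRingCat.of k)) (qA k A)) :=
    MorphismProperty.pullback_fst _ _ inferInstance
  let H := (Scheme.Modules.pullback (pullback.fst (P ↘ Spec (CommRingCat.of k)) (qA k A))).obj
    ((Scheme.Modules.pullback i).obj (Twist.twistProjSpace n k 1))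
  have hH : CohB1.IsAmple H := AmpleVan.FiniteSurj.isAmple_pullback_of_isAffineHom _
    (AmpleVan.FiniteSurj.isAmple_pullback_of_isAffineHom i (HilbPoly.isAmple_twist_one_pn n))
  obtain ⟨n₀, hn₀⟩ := AmpleX.eventually_generated_finite hH hBA.1 (QCoh.isFT_of_isFP (QCoh.isCoh_iff_isFP.1 hBA))
  obtain ⟨B₀, eB₀, κ₀, _, g₀, hg₀⟩ := hn₀ n₀ le_rfl
  haveI := Fintype.ofFinite κ₀
  let M := CohB1.tensorPow H n₀
  have hM : PicF.IsInvertible M := InvX.isInvertible_tensorPow hH.1 n₀
  obtain ⟨π₀, hπ₀⟩ := InvX.exists_epi_freeMod (F := B₀) (k := Fintype.card κ₀)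
    (s := g₀ ∘ (Fintype.equivFin κ₀).symm) (fun x => by
      rw [← hg₀ x]
      refine congrArg (Submodule.span _) ?_
      exact (Fintype.equivFin κ₀).symm.surjective.range_comp
        (g := fun i => (B₀.presheaf.germ ⊤ x trivial).hom (g₀ i)))
  obtain ⟨cB⟩ := PicMul.comm BA M
  let π : FlatMod.freeMod (XA k P A) (Fintype.card κ₀) ⟶ (DCoh.tensorBi.obj M).obj BA := π₀ ≫ eB₀.hom ≫ cB.hom
  haveI : Epi π := by
    haveI := hπ₀
    infer_instance
  have hMG : Coh.IsCoh (CohB1.tensorMod M GA) := AmpleVan.isCoh_tensor (AmpleVan.isCoh_invertible hM) hGA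
  let D : PUnit.{u + 1} → Piece (k := k) P A := fun _ =>
    { O := ⊤
      B := A
      p := (⊤ : (XA k P A).Opens).ι ≫ piA k P A
      proper := by
        haveI : IsIso (⊤ : (XA k P A).Opens).ι := inferInstanceAs (IsIso (XA k P A).topIso.hom)
        infer_instance
      comp_eq := by
        rw [show CommRingCat.ofHom (algebraMap A A) = 𝟙 (CommRingCat.of A) from rfl, Spec.map_id]
        exact Category.comp_id _ }
  obtain ⟨a, ha, -, hsec⟩ := exists_secBC P A hMG D
  -- over the localization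
  let A₁ := Localization.Away a
  haveI : Algebra.FiniteType k A₁ := Algebra.FiniteType.trans (S := A) inferInstance inferInstance
  haveI : LocallyOfFiniteType (qA k A₁) := by
    rw [HasRingHomProperty.Spec_iff (P := @LocallyOfFiniteType)]
    exact RingHom.finiteType_algebraMap.2 inferInstance
  haveI := isLocallyNoetherian_prodK (X := P) (qA k A₁)
  haveI := isLocallyNoetherian_prodK (X := X) (qA k A₁)
  let u₁ := pmA (k := k) P A A₁
  let q₁ := qProd q hq (qA k A₁)
  let F₁ := (Scheme.Modules.pullback (pmA (k := k) X A A₁)).obj FA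
  let B₁ := (Scheme.Modules.pullback q₁).obj F₁
  let G₁ := (Scheme.Modules.pullback u₁).obj GA
  let M₁ := (Scheme.Modules.pullback u₁).obj M
  have hF₁ : Coh.IsCoh F₁ := ZClosLib.isCoh_pullback _ hFA
  have hB₁ : Coh.IsCoh B₁ := ZClosLib.isCoh_pullback _ hF₁
  have hG₁ : Coh.IsCoh G₁ := ZClosLib.isCoh_pullback _ hGA
  have hM₁ : PicF.IsInvertible M₁ := PicClLib.isInvertible_pullback _ hM
  obtain ⟨fr⟩ := nonempty_pullback_free u₁ (Fintype.card κ₀)
  let eBB : (Scheme.Modules.pullback u₁).obj BA ≅ B₁ :=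
    pc u₁ qP (pm_qProd q hq (qA k A) _ (qA_comp A A₁)) FA ≪≫
      (pc q₁ (pmA (k := k) X A A₁) rfl FA).symm
  let π₁ : FlatMod.freeMod (XA k P A₁) (Fintype.card κ₀) ⟶ (DCoh.tensorBi.obj M₁).obj B₁ :=
    fr.hom ≫ (Scheme.Modules.pullback u₁).map π ≫ (pT u₁ M BA).hom ≫ (DCoh.tensorBi.obj M₁).map eBB.hom
  haveI : (Scheme.Modules.pullback u₁).IsLeftAdjoint :=
    (Scheme.Modules.pullbackPushforwardAdjunction u₁).isLeftAdjoint
  haveI : Epi π₁ := by
    haveI : Epi ((Scheme.Modules.pullback u₁).map π) := inferInstance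
    infer_instance
  have hsec₁ : SecBC P ((DCoh.tensorBi.obj M₁).obj G₁) ⊤ := secBC_of_iso (pT u₁ M GA) (hsec PUnit.unit)
  obtain ⟨σ, _, C, ι, hC, hι⟩ := exists_univHom P hB₁ hG₁ hM₁ π₁ hsec₁
  let A₂ := MvPolynomial σ A₁
  haveI : Algebra.FiniteType k A₂ := Algebra.FiniteType.trans (S := A₁) inferInstance inferInstance
  haveI : LocallyOfFiniteType (qA k A₂) := by
    rw [HasRingHomProperty.Spec_iff (P := @LocallyOfFiniteType)]
    exact RingHom.finiteType_algebraMap.2 inferInstance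
  haveI := isLocallyNoetherian_prodK (X := X) (qA k A₂)
  let uX := pmA (k := k) X A₁ A₂
  let uP := pmA (k := k) P A₁ A₂
  let q₂ := qProd q hq (qA k A₂)
  have w₂ : uP ≫ q₁ = q₂ ≫ uX := pm_qProd q hq (qA k A₁) _ (qA_comp A₁ A₂)
  let Φ : (Scheme.Modules.pullback uX).obj F₁ ⟶ (Scheme.Modules.pushforward q₂).obj C :=
    (Scheme.Modules.pullback uX).map ((Scheme.Modules.pullbackPushforwardAdjunction q₁).unit.app F₁) ≫
      beta q₁ q₂ uX uP w₂ B₁ ≫ (Scheme.Modules.pushforward q₂).map ι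
  refine ⟨a, ha, isBounded_mono ?_ (isBounded_kernel_beta q hq (qA k A₂) (ZClosLib.isCoh_pullback uX hF₁) hC Φ)⟩
  rintro L ⟨ψ, hψ, ht, φ₀, ⟨eL⟩⟩
  obtain ⟨ψ₁, hψ₁⟩ := exists_lift_away a ψ hψ
  let sX := slc X ψ₁
  let sP := slc P ψ₁
  let eF : (Scheme.Modules.pullback sX).obj F₁ ≅ Pic13.fibreMod k X r _ ht FT :=
    pc sX (pmA (k := k) X A A₁) ((slc_pmA X A A₁ ψ₁).trans (by rw [hψ₁])) FA ≪≫
      fibrePm j hj _ (point_comp ψ) ht FT
  let eG : (Scheme.Modules.pullback sP).obj G₁ ≅ Pic13.fibreMod k P r _ ht GT :=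
    pc sP u₁ ((slc_pmA P A A₁ ψ₁).trans (by rw [hψ₁])) GA ≪≫ fibrePm j hj _ (point_comp ψ) ht GT
  let w₁ := slice_qProd q hq (qA k A₁) _ (point_comp ψ₁)
  obtain ⟨ψ₀, hψ₀⟩ := exists_psi q₁ q sX sP w₁ F₁
    (eF.hom ≫ φ₀ ≫ (Scheme.Modules.pushforward q).map eG.inv)
  obtain ⟨ψ₂, hψ₂, eP, b, hb⟩ := hι ψ₁ ψ₀
  refine ⟨_, point_comp ψ₂, ?_⟩
  have eX : slc X ψ₂ ≫ uX = sX := (slc_pmA X A₁ A₂ ψ₂).trans (by rw [hψ₂])
  let aI : (Scheme.Modules.pullback (slc X ψ₂)).obj ((Scheme.Modules.pullback uX).obj F₁) ≅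
      Pic13.fibreMod k X r _ ht FT := pc (slc X ψ₂) uX eX F₁ ≪≫ eF
  have hp := beta_paste q₁ q₂ uX uP w₂ q (slc X ψ₂) (slc P ψ₂) (slice_qProd q hq _ _ (point_comp ψ₂)) eX eP w₁ B₁
  have hnat : (Scheme.Modules.pullback (slc X ψ₂)).map ((Scheme.Modules.pullback uX).map
      ((Scheme.Modules.pullbackPushforwardAdjunction q₁).unit.app F₁)) ≫ (pc (slc X ψ₂) uX eX _).hom =
      (pc (slc X ψ₂) uX eX F₁).hom ≫ (Scheme.Modules.pullback sX).map
        ((Scheme.Modules.pullbackPushforwardAdjunction q₁).unit.app F₁) :=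
    (NatTrans.naturality ((Scheme.Modules.pullbackComp (slc X ψ₂) uX).hom ≫
      (Scheme.Modules.pullbackCongr eX).hom) _)
  obtain ⟨e₁⟩ := nonempty_arrow_push (Scheme.Modules.pushforward q) aI (b ≪≫ eG)
    (f := (Scheme.Modules.pullback (slc X ψ₂)).map Φ ≫
      beta q₂ q (slc X ψ₂) (slc P ψ₂) (slice_qProd q hq _ _ (point_comp ψ₂)) C) (f' := φ₀) (by
      simp only [Φ, Functor.map_comp, Category.assoc, Iso.trans_hom, aI]
      rw [reassoc_of% (beta_natural q₂ q (slc X ψ₂) (slc P ψ₂) (slice_qProd q hq _ _ (point_comp ψ₂)) ι),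
        ← (Scheme.Modules.pushforward q).map_comp_assoc, hb, Functor.map_comp, Category.assoc,
        reassoc_of% hp, reassoc_of% hnat, reassoc_of% hψ₀]
      rw [← Functor.map_comp, Iso.inv_hom_id, CategoryTheory.Functor.map_id, Category.comp_id]
      simp only [pc, Iso.trans_hom, Category.assoc])
  exact ⟨e₁ ≪≫ eL⟩

end Groth.Agent.Pic13Lib.Bdd
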