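import Groth.Agent.Pic13Lib.Bdd.InjProper
import Groth.Agent.Pic13Lib.Bdd.HomPush
import Groth.Agent.Pic13Lib.NumTrivProj
import Groth.Agent.Pic13Lib.NumTrivBC
import Groth.Agent.TFCurvPush.Main

/-!
# Numerically trivial modules on a proper scheme form a bounded family
-/

set_option autoImplicit false
set_option linter.style.haveILetI false
set_option linter.unusedSectionVars false
set_option backward.isDefEq.respectTransparency false
set_option backward.isDefEq.respectTransparency.types false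
set_option maxHeartbeats 2000000

universe u

open CategoryTheory CategoryTheory.Limits AlgebraicGeometry TopologicalSpace Opposite
open Groth.Agent.H23 Groth.Agent.H23.PicMul

attribute [local instance] PicMul.clMonoid

noncomputable section

namespace Groth.Agent.Pic13Lib.Bdd

open Groth.Agent

section Cat

variable {C : Type*} [Category C] [Abelian C] [HasFiniteBiproducts C]

theorem nonempty_kernel_split {A B B₀ B₁ : C} (φ : A ⟶ B) (p₀ : B ⟶ B₀) (p₁ : B ⟶ B₁)
    (hp : ∀ {Z : C} (f g : Z ⟶ B), f ≫ p₀ = g ≫ p₀ → f ≫ p₁ = g ≫ p₁ → f = g) :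
    Nonempty (kernel (kernel.ι (φ ≫ p₀) ≫ φ ≫ p₁) ≅ kernel φ) :=
  ⟨{ hom := kernel.lift φ (kernel.ι _ ≫ kernel.ι _) (by
      refine hp _ _ ?_ ?_
      · simp only [Category.assoc, kernel.condition, comp_zero, zero_comp]
      · simp only [Category.assoc, kernel.condition, zero_comp])
     inv := kernel.lift _ (kernel.lift _ (kernel.ι φ) (by rw [kernel.condition_assoc, zero_comp])) (by
      simp only [← Category.assoc, kernel.lift_ι, kernel.condition, zero_comp])
     hom_inv_id := by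
      refine (cancel_mono (kernel.ι _)).1 ((cancel_mono (kernel.ι _)).1 ?_)
      simp only [Category.assoc, kernel.lift_ι, Category.id_comp]
     inv_hom_id := by
      refine (cancel_mono (kernel.ι _)).1 ?_
      simp only [Category.assoc, kernel.lift_ι, kernel.lift_ι_assoc, Category.id_comp] }⟩

theorem nonempty_biproduct_succ {n : ℕ} (f : Fin (n + 1) → C) :
    Nonempty ((⨁ f) ≅ f 0 ⊞ ⨁ (fun l : Fin n => f l.succ)) := by
  classical
  refine ⟨{ hom := biprod.lift (biproduct.π f 0) (biproduct.lift fun l => biproduct.π f l.succ)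
            inv := biproduct.lift (Fin.cases biprod.fst (fun l => biprod.snd ≫ biproduct.π _ l))
            hom_inv_id := ?_
            inv_hom_id := ?_ }⟩
  · refine biproduct.hom_ext _ _ fun j => ?_
    refine Fin.cases ?_ (fun l => ?_) j
    · simp
    · simp
  · refine biprod.hom_ext _ _ ?_ ?_
    · simp
    · refine biproduct.hom_ext _ _ fun l => ?_
      simp

/-- An object embedded in `A₀` with quotient embedded in `W` is a kernel. -/
theorem nonempty_iso_kernel {O A₀ W : C} (α : O ⟶ A₀) [Mono α] (w : cokernel α ⟶ W) [Mono w] :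
    Nonempty (O ≅ kernel (cokernel.π α ≫ w)) :=
  ⟨(Abelian.monoIsKernelOfCokernel _ (cokernelIsCokernel α)).conePointUniqueUpToIso (limit.isLimit _) ≪≫
    (kernelCompMono (cokernel.π α) w).symm⟩

end Cat

/-- The projection formula for invertible modules. -/
theorem nonempty_push_tensor {Y Z : Scheme.{u}} (π : Y ⟶ Z) (F : Y.Modules) {N : Z.Modules}
    (hN : PicF.IsInvertible N) :
    Nonempty (CohB1.tensorMod N ((Scheme.Modules.pushforward π).obj F) ≅
      (Scheme.Modules.pushforward π).obj (CohB1.tensorMod ((Scheme.Modules.pullback π).obj N) F)) := by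
  haveI : EnoughInjectives Y.Modules := inferInstance
  obtain ⟨φ⟩ := S0927.result π F N
    (fun y => let ⟨W, hy, he⟩ := InvEnd.isFinLocFreeOfRank_one hN y; ⟨W, 1, hy, he⟩) 0
  let ψ := (Scheme.Modules.pushforward π).rightDerivedZeroIsoSelf
  let a : (DCoh.tensorBi.obj N).obj ((Scheme.Modules.pushforward π).obj F) ≅
      (Scheme.Modules.pushforward π).obj (CohB1.tensorMod ((Scheme.Modules.pullback π).obj N) F) :=
    (DCoh.tensorBi.obj N).mapIso (ψ.app F).symm ≪≫ φ ≪≫ ψ.app _
  exact ⟨a⟩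

variable {k : Type u} [Field k] [IsAlgClosed k] {X : Scheme.{u}} [X.Over (Spec (CommRingCat.of k))]
  [IsProper (X ↘ Spec (CommRingCat.of k))]

/-- The structure map of a projective scheme over `X`. -/
@[reducible] def ProjOver.over (D : ProjOver k X) : D.P.Over (Spec (CommRingCat.of k)) :=
  ⟨D.q ≫ (X ↘ Spec (CommRingCat.of k))⟩

attribute [local instance] ProjOver.over

theorem ProjOver.isProper (D : ProjOver k X) : IsProper (D.P ↘ Spec (CommRingCat.of k)) := by
  haveI := D.closed
  haveI : IsProper (CohB1.ProjSpace.toSpec D.n k) := PnCoh.Chow.isProper_toSpec D.n _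
  show IsProper (D.q ≫ (X ↘ Spec (CommRingCat.of k)))
  rw [← D.comp_eq]
  infer_instance

theorem ProjOver.exists_ample (D : ProjOver k X) : ∃ H : D.P.Modules, CohB1.IsAmple H := by
  haveI := D.isProper
  haveI := D.closed
  haveI : CompactSpace D.P := AmpleVan.compactSpace_of_proper (A := k)
  exact ⟨_, AmpleVan.FiniteSurj.isAmple_pullback_of_isAffineHom D.i (HilbPoly.isAmple_twist_one_pn D.n)⟩

theorem ProjOver.isProper_q (D : ProjOver k X) : IsProper D.q := by
  haveI := D.isProper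
  haveI : IsProper (D.q ≫ (X ↘ Spec (CommRingCat.of k))) := ‹IsProper (D.P ↘ Spec (CommRingCat.of k))›
  exact IsProper.of_comp D.q (X ↘ Spec (CommRingCat.of k))

/-- Numerical triviality is stable under pullback. -/
theorem isNT_pullback {X' : Scheme.{u}} [X'.Over (Spec (CommRingCat.of k))]
    [IsProper (X' ↘ Spec (CommRingCat.of k))] (g : X' ⟶ X)
    (hg : g ≫ (X ↘ Spec (CommRingCat.of k)) = X' ↘ Spec (CommRingCat.of k)) {L : X.Modules}
    (hL : NumTriv.IsNT k L) : NumTriv.IsNT k ((Scheme.Modules.pullback g).obj L) := by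
  refine ⟨PicClLib.isInvertible_pullback g hL.1, isNumEquivZero_of_numEq (PicClLib.isInvertible_pullback g hL.1) ?_⟩
  obtain ⟨e⟩ := PicClLib.nonempty_pullback_structureModule g
  intro ξ' hξ'
  rw [numEq_pullback (k := k) g hg hL.1 InvX.isInvertible_structureModule (numEq_structure hL.1 hL.2) ξ' hξ']
  exact CurveCohLib.euler_congr (k := k) (PicGrp.tensorModIso (Iso.refl _) e)

/-- Numerical triviality descends along surjective morphisms. -/
theorem isNT_of_pullback {X' : Scheme.{u}} [X'.Over (Spec (CommRingCat.of k))]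
    [IsProper (X' ↘ Spec (CommRingCat.of k))] (g : X' ⟶ X) [Surjective g]
    (hg : g ≫ (X ↘ Spec (CommRingCat.of k)) = X' ↘ Spec (CommRingCat.of k)) {L : X.Modules}
    (hL : PicF.IsInvertible L) (h : NumTriv.IsNT k ((Scheme.Modules.pullback g).obj L)) : NumTriv.IsNT k L := by
  refine ⟨hL, isNumEquivZero_of_numEq hL (numEq_of_pullback (k := k) g hg hL InvX.isInvertible_structureModule ?_)⟩
  obtain ⟨e⟩ := PicClLib.nonempty_pullback_structureModule g
  intro ξ' hξ'
  rw [numEq_structure h.1 h.2 ξ' hξ']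
  exact CurveCohLib.euler_congr (k := k) (PicGrp.tensorModIso (Iso.refl _) e.symm)

theorem isBounded_dirSum : ∀ {n : ℕ} (Q : Fin n → X.Modules → Prop), (∀ l, Pic13.IsBounded k X (Q l)) →
    Pic13.IsBounded k X fun L => ∃ f : Fin n → X.Modules, (∀ l, Q l (f l)) ∧ Nonempty ((⨁ f) ≅ L)
  | 0, Q, _ => by
    haveI := CurveCohLib.isNoetherian_of_proper (k := k) (X := X)
    have h0 : Coh.IsCoh (cokernel (𝟙 (Coh.structureModule X))) :=
      QCoh.isCoh_cokernel QCoh.isCoh_structureModule'.1 QCoh.isCoh_structureModule' _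
    refine isBounded_mono ?_ (isBounded_single h0)
    rintro L ⟨f, -, ⟨e⟩⟩
    have hz : IsZero (⨁ f) := (IsZero.iff_id_eq_zero _).2 (biproduct.hom_ext _ _ fun j => j.elim0)
    exact ⟨(isZero_cokernel_of_epi _).iso (hz.of_iso e.symm)⟩
  | n + 1, Q, hQ => by
    refine isBounded_mono ?_ (isBounded_sum (hQ 0) (isBounded_dirSum (fun l : Fin n => Q l.succ) fun l => hQ l.succ))
    rintro L ⟨f, hf, ⟨e⟩⟩
    obtain ⟨s⟩ := nonempty_biproduct_succ f
    exact ⟨f 0, _, hf 0, ⟨fun l => f l.succ, fun l => hf l.succ, ⟨Iso.refl _⟩⟩, ⟨s.symm ≪≫ e⟩⟩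

theorem isBounded_kernel_tuple : ∀ {n : ℕ} (D : Fin n → ProjOver k X) (Q : ∀ l, (D l).P.Modules → Prop),
    (∀ l, Pic13.IsBounded k (D l).P (Q l)) → ∀ {PA : X.Modules → Prop}, Pic13.IsBounded k X PA →
      Pic13.IsBounded k X fun L => ∃ (A : X.Modules) (M : ∀ l, (D l).P.Modules), PA A ∧ (∀ l, Q l (M l)) ∧
        ∃ φ : A ⟶ ⨁ (fun l => (Scheme.Modules.pushforward (D l).q).obj (M l)), Nonempty (kernel φ ≅ L)
  | 0, D, Q, _, PA, hA => by
    refine isBounded_mono ?_ (isBounded_sum hA (isBounded_dirSum (n := 0) (fun l => l.elim0) fun l => l.elim0))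
    rintro L ⟨A, M, hA, -, φ, ⟨e⟩⟩
    have hφ : φ = 0 := biproduct.hom_ext _ _ fun j => j.elim0
    have hz : IsZero (⨁ (fun l : Fin 0 => l.elim0 : Fin 0 → X.Modules)) :=
      (IsZero.iff_id_eq_zero _).2 (biproduct.hom_ext _ _ fun j => j.elim0)
    exact ⟨A, _, hA, ⟨fun l => l.elim0, fun l => l.elim0, ⟨Iso.refl _⟩⟩,
      ⟨(isoBiprodZero hz).symm ≪≫ (kernelZeroIsoSource).symm ≪≫ kernelIsoOfEq hφ.symm ≪≫ e⟩⟩
  | n + 1, D, Q, hQ, PA, hA => by
    haveI := (D 0).isProper
    haveI := (D 0).closed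
    have h1 := isBounded_kernel_push (k := k) (D 0).q rfl (D 0).i (D 0).comp_eq hA (hQ 0)
    refine isBounded_mono ?_ (isBounded_kernel_tuple (fun l : Fin n => D l.succ) (fun l => Q l.succ)
      (fun l => hQ l.succ) h1)
    rintro L ⟨A, M, hA, hM, φ, ⟨e⟩⟩
    let B := fun l => (Scheme.Modules.pushforward (D l).q).obj (M l)
    let p₀ := biproduct.π B 0
    let p₁ := biproduct.lift fun l : Fin n => biproduct.π B l.succ
    obtain ⟨s⟩ := nonempty_kernel_split φ p₀ p₁ fun f g h₀ h₁ => biproduct.hom_ext _ _ fun j => by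
      refine Fin.cases h₀ (fun l => ?_) j
      have := congrArg (· ≫ biproduct.π _ l) h₁
      simpa [p₁] using this
    exact ⟨kernel (φ ≫ p₀), fun l => M l.succ, ⟨A, M 0, hA, hM 0, φ ≫ p₀, ⟨Iso.refl _⟩⟩, fun l => hM l.succ,
      kernel.ι (φ ≫ p₀) ≫ φ ≫ p₁, ⟨s ≪≫ e⟩⟩

omit [IsAlgClosed k] in
theorem isCoh_dirSum (k : Type u) [Field k] {X : Scheme.{u}} [X.Over (Spec (CommRingCat.of k))]
    [IsProper (X ↘ Spec (CommRingCat.of k))] : ∀ {n : ℕ} (f : Fin n → X.Modules), (∀ l, Coh.IsCoh (f l)) → Coh.IsCoh (⨁ f)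
  | 0, f, _ => by
    haveI := CurveCohLib.isNoetherian_of_proper (k := k) (X := X)
    have h0 : Coh.IsCoh (cokernel (𝟙 (Coh.structureModule X))) :=
      QCoh.isCoh_cokernel QCoh.isCoh_structureModule'.1 QCoh.isCoh_structureModule' _
    exact SheafHomX.isCoh_of_iso ((isZero_cokernel_of_epi _).iso
      ((IsZero.iff_id_eq_zero _).2 (biproduct.hom_ext _ _ fun j : Fin 0 => j.elim0))) h0
  | n + 1, f, h => by
    obtain ⟨s⟩ := nonempty_biproduct_succ f
    exact SheafHomX.isCoh_of_iso s.symm (KZ.isCoh_biprod (h 0) (isCoh_dirSum k (fun l : Fin n => f l.succ) fun l => h l.succ))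

omit [IsAlgClosed k] in
/-- The joint unit map. -/
theorem mono_lift_unit {F : X.Modules} {N : ℕ} (D : Fin N → ProjOver k X)
    (hD : ∀ (V : X.Opens) (x : Γ(F, V)),
      (∀ l, QCoh.pullSec (D l).q F (le_refl ((D l).q ⁻¹ᵁ V)) x = 0) → x = 0) :
    Mono (biproduct.lift fun l => (Scheme.Modules.pullbackPushforwardAdjunction (D l).q).unit.app F) := by
  refine QCoh.mono_of_app_injective _ fun V => (injective_iff_map_eq_zero _).2 fun x hx => hD V x fun l => ?_
  have hc : ∀ (G : Fin N → X.Modules) (f : ∀ l, F ⟶ G l), (biproduct.lift f).app V x = 0 → (f l).app V x = 0 :=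
    fun G f h => (congrArg (fun φ => Scheme.Modules.Hom.app φ V x) (biproduct.lift_π f l).symm).trans
      ((congrArg ((biproduct.π G l).app V) h).trans (map_zero _))
  exact (app_unit_eq_pullSec (D l).q F V x).symm.trans (hc _ _ hx)

/-- The numerically trivial invertible modules on a proper scheme form a bounded family. -/
theorem isBounded_nt_proper : Pic13.IsBounded k X (NumTriv.IsNT k (X := X)) := by
  classical
  haveI := CurveCohLib.isNoetherian_of_proper (k := k) (X := X)
  let O := Coh.structureModule X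
  have hO : Coh.IsCoh O := QCoh.isCoh_structureModule'
  obtain ⟨N, D, hD⟩ := injectsProj_of_coh (k := k) hO
  let A₀ : Fin N → X.Modules := fun l =>
    (Scheme.Modules.pushforward (D l).q).obj ((Scheme.Modules.pullback (D l).q).obj O)
  haveI hα := mono_lift_unit D hD
  let α : O ⟶ ⨁ A₀ := biproduct.lift fun l => (Scheme.Modules.pullbackPushforwardAdjunction (D l).q).unit.app O
  haveI : Mono α := hα
  have hA₀ : ∀ l, Coh.IsCoh (A₀ l) := fun l => by
    haveI := (D l).isProper_q
    exact ExistEasy.isCoh_pushforward_proper (D l).q (ZClosLib.isCoh_pullback _ hO)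
  have hQ : Coh.IsCoh (cokernel α) := QCoh.isCoh_cokernel hO.1 (isCoh_dirSum k A₀ hA₀) α
  obtain ⟨N', D', hD'⟩ := injectsProj_of_coh (k := k) hQ
  haveI hw := mono_lift_unit D' hD'
  let Q' : ∀ l, (D' l).P.Modules := fun l => (Scheme.Modules.pullback (D' l).q).obj (cokernel α)
  let W : Fin N' → X.Modules := fun l => (Scheme.Modules.pushforward (D' l).q).obj (Q' l)
  let w : cokernel α ⟶ ⨁ W := biproduct.lift fun l =>
    (Scheme.Modules.pullbackPushforwardAdjunction (D' l).q).unit.app (cokernel α)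
  haveI : Mono w := hw
  have hNT : ∀ D : ProjOver k X, Pic13.IsBounded k D.P (fun M => haveI := D.isProper; NumTriv.IsNT k (X := D.P) M) := by
    intro D
    haveI := D.isProper
    obtain ⟨H, hH⟩ := D.exists_ample
    exact NumTriv.isBounded_nt hH
  have hA : Pic13.IsBounded k X fun B => ∃ f : Fin N → X.Modules,
      (∀ l, ∃ M, NumTriv.IsNT k (X := (D l).P) M ∧
        Nonempty ((Scheme.Modules.pushforward (D l).q).obj M ≅ f l)) ∧ Nonempty ((⨁ f) ≅ B) :=
    isBounded_dirSum _ fun l => by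
      haveI := (D l).isProper
      exact isBounded_push (D l).q rfl (hNT (D l))
  have hB : ∀ l, Pic13.IsBounded k (D' l).P fun M => ∃ A B, NumTriv.IsNT k A ∧ Nonempty (Q' l ≅ B) ∧
      Nonempty (CohB1.tensorMod A B ≅ M) := fun l => by
    haveI := (D' l).isProper
    exact isBounded_tensorProd (hNT (D' l)) (isBounded_single (ZClosLib.isCoh_pullback _ hQ))
  refine isBounded_mono ?_ (isBounded_kernel_tuple D' _ hB hA)
  intro L hL
  let T := DCoh.tensorBi.obj L
  haveI : T.IsEquivalence := Chern.isEquivalence_ten hL.1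
  haveI : T.Additive := inferInstance
  haveI : PreservesLimitsOfSize.{0, 0} T := inferInstance
  haveI : PreservesFiniteLimits T := inferInstance
  haveI : PreservesBiproductsOfShape (Fin N) T := preservesBiproductsOfShape_of_preservesProductsOfShape T
  haveI : PreservesBiproductsOfShape (Fin N') T := preservesBiproductsOfShape_of_preservesProductsOfShape T
  obtain ⟨eO⟩ : Nonempty (T.obj O ≅ L) := cl_eq_iff.1 (by
    show PicF.cl (CohB1.tensorMod L O) = _
    rw [cl_tensor, ← PicMul.one_def, mul_one])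
  obtain ⟨eK⟩ := nonempty_iso_kernel α w
  haveI : PreservesLimit (parallelPair (cokernel.π α ≫ w) 0) T := inferInstance
  let f : Fin N → X.Modules := fun l => T.obj (A₀ l)
  let M' : ∀ l, (D' l).P.Modules := fun l => CohB1.tensorMod ((Scheme.Modules.pullback (D' l).q).obj L) (Q' l)
  have hT' : ∀ l, Nonempty (T.obj (W l) ≅ (Scheme.Modules.pushforward (D' l).q).obj (M' l)) := fun l =>
    nonempty_push_tensor (D' l).q (Q' l) hL.1
  let gT := fun l => (hT' l).some
  let bW : T.obj (⨁ W) ≅ ⨁ fun l => (Scheme.Modules.pushforward (D' l).q).obj (M' l) :=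
    T.mapBiproduct W ≪≫ biproduct.mapIso gT
  let bA : T.obj (⨁ A₀) ≅ ⨁ f := T.mapBiproduct A₀
  refine ⟨⨁ f, M', ⟨f, fun l => ?_, ⟨Iso.refl _⟩⟩, fun l => ?_, bA.inv ≫ T.map (cokernel.π α ≫ w) ≫ bW.hom, ?_⟩
  · haveI := (D l).isProper
    obtain ⟨e⟩ := nonempty_push_tensor (D l).q ((Scheme.Modules.pullback (D l).q).obj O) hL.1
    obtain ⟨eU⟩ : Nonempty ((Scheme.Modules.pullback (D l).q).obj L ≅
        CohB1.tensorMod ((Scheme.Modules.pullback (D l).q).obj L) ((Scheme.Modules.pullback (D l).q).obj O)) := by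
      obtain ⟨o⟩ := PicClLib.nonempty_pullback_structureModule (D l).q
      refine cl_eq_iff.1 ?_
      rw [cl_tensor, cl_eq_iff.2 ⟨o⟩, ← PicMul.one_def, mul_one]
    exact ⟨_, isNT_pullback (D l).q rfl hL, ⟨(Scheme.Modules.pushforward (D l).q).mapIso eU ≪≫ e.symm⟩⟩
  · haveI := (D' l).isProper
    exact ⟨_, _, isNT_pullback (D' l).q rfl hL, ⟨Iso.refl _⟩, ⟨Iso.refl _⟩⟩
  · obtain ⟨e₁⟩ := nonempty_kernel_arrow bA bW (f := T.map (cokernel.π α ≫ w))
      (f' := bA.inv ≫ T.map (cokernel.π α ≫ w) ≫ bW.hom) (by rw [Iso.hom_inv_id_assoc])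
    exact ⟨e₁.symm ≪≫ (PreservesKernel.iso T _).symm ≪≫ T.mapIso eK.symm ≪≫ eO⟩

end Groth.Agent.Pic13Lib.Bdd
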