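import Groth.Agent.Pic13Lib.Bdd.Proper

/-!
# Consequences of the boundedness of numerically trivial modules
-/

set_option autoImplicit false
set_option linter.style.haveILetI false
set_option linter.unusedSectionVars false
set_option backward.isDefEq.respectTransparency false
set_option backward.isDefEq.respectTransparency.types false
set_option maxHeartbeats 1000000

universe u

open CategoryTheory CategoryTheory.Limits AlgebraicGeometry TopologicalSpace Opposite
open Groth.Agent.H23 Groth.Agent.H23.PicMul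

attribute [local instance] PicMul.clMonoid

noncomputable section

namespace Groth.Agent.Pic13Lib.Bdd

open Groth.Agent

variable {k : Type u} [Field k] [IsAlgClosed k] {X : Scheme.{u}} [X.Over (Spec (CommRingCat.of k))]
  [IsProper (X ↘ Spec (CommRingCat.of k))]

/-- Numerically trivial modules are τ-equivalent to zero. -/
theorem isTauEquivZero_of_nt {L : X.Modules} (hL : NumTriv.IsNT k L) : Pic13.IsTauEquivZero k X L :=
  NumTriv.isTauEquivZero_of_bounded isBounded_nt_proper (fun _ h => h.1) hL.1 fun n => hL.pow k n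

/-- τ-trivial modules are numerically trivial. -/
theorem isNT_of_tau {L : X.Modules} (hL : PicF.IsInvertible L) (hτ : Pic13.IsTauEquivZero k X L) :
    NumTriv.IsNT k L :=
  NumTriv.isNT_of_euler hL fun _ hF => euler_tensor_of_isTauEquivZero hL hτ hF

/-- The τ-trivial modules form a bounded family. -/
theorem isBounded_tau :
    Pic13.IsBounded k X fun L => PicF.IsInvertible L ∧ Pic13.IsTauEquivZero k X L :=
  isBounded_mono (fun _ h => isNT_of_tau h.1 h.2) isBounded_nt_proper

omit [IsAlgClosed k] in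
theorem fibre_tensor_fst {T : Scheme.{u}} (q : T ⟶ Spec (CommRingCat.of k)) (t : Spec (CommRingCat.of k) ⟶ T)
    (ht : t ≫ q = 𝟙 _) (M : (Pic13.prodK k X q).Modules) (R : X.Modules) :
    PicF.cl (Pic13.fibreMod k X q t ht (CohB1.tensorMod M
      ((Scheme.Modules.pullback (pullback.fst (X ↘ Spec (CommRingCat.of k)) q)).obj R))) =
      PicF.cl (Pic13.fibreMod k X q t ht M) * PicF.cl R := by
  show PicF.pullCl (Pic13.sliceAt k X q t ht) (PicF.cl (CohB1.tensorMod M _)) = _
  rw [cl_tensor, PicMul.pullCl_mul]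
  congr 1
  exact cl_eq_iff.2 ⟨(Scheme.Modules.pullbackComp _ _).app R ≪≫
    (Scheme.Modules.pullbackCongr (sliceAt_fst q t ht)).app R ≪≫ (Scheme.Modules.pullbackId _).app R⟩

/-- A bounded family of invertible modules has finitely many classes modulo algebraic equivalence. -/
theorem exists_algEq_classes {P : X.Modules → Prop} (hP : Pic13.IsBounded k X P)
    (hinv : ∀ L, P L → PicF.IsInvertible L) :
    ∃ (κ : Type u) (_ : Finite κ) (R : κ → X.Modules), (∀ c, PicF.IsInvertible (R c)) ∧
      ∀ L, P L → ∃ (c : κ) (N : X.Modules), PicF.IsInvertible N ∧ Pic13.IsAlgEquivZero k X N ∧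
        PicF.cl L = PicF.cl (R c) * PicF.cl N := by
  classical
  obtain ⟨κ, hκ, T, q, M, hT, hcov⟩ := exists_connected_families hP hinv
  let κ' := {c : κ // ∃ t : Spec (CommRingCat.of k) ⟶ T c, t ≫ q c = 𝟙 _}
  let t₀ := fun c : κ' => c.2.choose
  have ht₀ : ∀ c : κ', t₀ c ≫ q c.1 = 𝟙 _ := fun c => c.2.choose_spec
  let R : κ' → X.Modules := fun c => Pic13.fibreMod k X (q c.1) (t₀ c) (ht₀ c) (M c.1)
  have hR : ∀ c, PicF.IsInvertible (R c) := fun c => PicClLib.isInvertible_pullback _ (hT c.1).2.2.2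
  refine ⟨κ', inferInstance, R, hR, fun L hL => ?_⟩
  obtain ⟨c, t, ht, ⟨e⟩⟩ := hcov L hL
  let c' : κ' := ⟨c, t, ht⟩
  obtain ⟨R', hR', ⟨eR⟩⟩ := PicInv.exists_inverse (hR c')
  have hinvR : PicF.cl (R c') * PicF.cl R' = 1 :=
    (cl_tensor _ _).symm.trans ((cl_eq_iff.2 ⟨eR⟩).trans PicMul.one_def.symm)
  refine ⟨c', CohB1.tensorMod L R', InvX.isInvertible_tensorMod (hinv L hL) hR', ?_, ?_⟩
  · obtain ⟨hconn, hlft, hqc, hM⟩ := hT c
    refine ⟨T c, q c, hconn, hlft, hqc, CohB1.tensorMod (M c)
      ((Scheme.Modules.pullback (pullback.fst (X ↘ Spec (CommRingCat.of k)) (q c))).obj R'),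
      InvX.isInvertible_tensorMod hM (PicClLib.isInvertible_pullback _ hR'), t, t₀ c', ht, ht₀ c', ?_, ?_⟩
    · refine cl_eq_iff.1 ?_
      rw [fibre_tensor_fst, cl_tensor]
      exact congrArg (· * _) (cl_eq_iff.2 ⟨e⟩)
    · refine cl_eq_iff.1 ?_
      rw [fibre_tensor_fst, ← PicMul.one_def]
      exact hinvR
  · rw [cl_tensor, mul_comm (PicF.cl L), ← mul_assoc, hinvR, one_mul]

/-- A finite set of coherent modules is bounded. -/
theorem isBounded_finite {κ : Type u} (R : κ → X.Modules) (hR : ∀ c, Coh.IsCoh (R c)) (s : Finset κ) :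
    Pic13.IsBounded k X fun L => ∃ c ∈ s, Nonempty (R c ≅ L) := by
  classical
  induction s using Finset.induction with
  | empty => exact isBounded_empty fun L ⟨c, hc, _⟩ => absurd hc (Finset.notMem_empty c)
  | insert a s _ ih =>
    refine isBounded_mono ?_ (isBounded_union (isBounded_single (hR a)) ih)
    rintro L ⟨c, hc, e⟩
    obtain rfl | hc := Finset.mem_insert.1 hc
    · exact Or.inl e
    · exact Or.inr ⟨c, hc, e⟩

/-- A family with finitely many classes modulo numerical triviality is bounded. -/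
theorem isBounded_of_classes {P : X.Modules → Prop} (hinv : ∀ L, P L → PicF.IsInvertible L) {κ : Type u} [Finite κ]
    (C : κ → X.Modules → Prop) (hC : ∀ L, P L → ∃ c, C c L)
    (h : ∀ c L L' L'', C c L → C c L' → P L → P L' → PicF.IsInvertible L'' →
      PicF.cl L' * PicF.cl L'' = 1 → NumTriv.IsNT k (CohB1.tensorMod L L'')) :
    Pic13.IsBounded k X P := by
  classical
  haveI := Fintype.ofFinite κ
  haveI := CurveCohLib.isNoetherian_of_proper (k := k) (X := X)
  let κ' := {c : κ // ∃ L, P L ∧ C c L}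
  let R : κ' → X.Modules := fun c => c.2.choose
  have hR : ∀ c : κ', P (R c) ∧ C c.1 (R c) := fun c => c.2.choose_spec
  refine isBounded_mono ?_ (isBounded_tensorProd
    (isBounded_finite R (fun c => AmpleVan.isCoh_invertible (hinv _ (hR c).1)) Finset.univ) isBounded_nt_proper)
  intro L hL
  obtain ⟨c, hc⟩ := hC L hL
  let c' : κ' := ⟨c, L, hL, hc⟩
  obtain ⟨R', hR', ⟨eR⟩⟩ := PicInv.exists_inverse (hinv _ (hR c').1)
  have hinvR : PicF.cl (R c') * PicF.cl R' = 1 :=
    (cl_tensor _ _).symm.trans ((cl_eq_iff.2 ⟨eR⟩).trans PicMul.one_def.symm)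
  refine ⟨R c', CohB1.tensorMod L R', ⟨c', Finset.mem_univ _, ⟨Iso.refl _⟩⟩,
    h c L (R c') R' hc (hR c').2 hL (hR c').1 hR' hinvR, cl_eq_iff.1 ?_⟩
  rw [cl_tensor, cl_tensor, mul_comm (PicF.cl L), ← mul_assoc, hinvR, one_mul]

end Groth.Agent.Pic13Lib.Bdd
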