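import Groth.Agent.Pic13Lib.Bdd.Gen
import Groth.Agent.CohBCX.FlatR
import Groth.Agent.CohBCX.PullOn
import Groth.Agent.ExistEasy.PP.PullSec
import Groth.Agent.MorLib.FlatBC
import Groth.Agent.FlatLoc6.GenFlat
import Groth.Agent.S4698

/-!
# Sections on a fibre over a rational point of an affine base
-/

set_option autoImplicit false
set_option linter.style.haveILetI false
set_option linter.unusedSectionVars false
set_option backward.isDefEq.respectTransparency false
set_option backward.isDefEq.respectTransparency.types false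
set_option maxHeartbeats 2000000

universe u

open CategoryTheory CategoryTheory.Limits AlgebraicGeometry TopologicalSpace Opposite

noncomputable section

namespace Groth.Agent.Pic13Lib.Bdd

open Groth.Agent

variable (k : Type u) [Field k] (X : Scheme.{u}) [X.Over (Spec (CommRingCat.of k))]
  [IsProper (X ↘ Spec (CommRingCat.of k))] (A : Type u) [CommRing A] [Algebra k A]

/-- The structure map of `Spec A` over `k`. -/
abbrev qA : Spec (CommRingCat.of A) ⟶ Spec (CommRingCat.of k) :=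
  Spec.map (CommRingCat.ofHom (algebraMap k A))

/-- `X` over `A`. -/
abbrev XA : Scheme.{u} := Pic13.prodK k X (qA k A)

/-- The projection of `X` over `A` to the base. -/
abbrev piA : XA k X A ⟶ Spec (CommRingCat.of A) := pullback.snd _ _

variable {k X A} (ψ : A →ₐ[k] k)

theorem point_comp : Spec.map (CommRingCat.ofHom ψ.toRingHom) ≫ qA k A = 𝟙 _ := by
  rw [← Spec.map_comp, ← CommRingCat.ofHom_comp, show ψ.toRingHom.comp (algebraMap k A) = RingHom.id k from RingHom.ext ψ.commutes, ← Spec.map_id]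
  rfl

variable (X)

/-- The slice at a rational point. -/
abbrev slc : X ⟶ XA k X A :=
  Pic13.sliceAt k X (qA k A) (Spec.map (CommRingCat.ofHom ψ.toRingHom)) (point_comp ψ)

theorem isPullback_slc : IsPullback (slc X ψ) (X ↘ Spec (CommRingCat.of k)) (piA k X A)
    (Spec.map (CommRingCat.ofHom ψ.toRingHom)) := by
  refine IsPullback.of_right ?_ (sliceAt_snd _ _ _) (IsPullback.of_hasPullback (X ↘ Spec (CommRingCat.of k)) (qA k A)).flip.flip
  rw [sliceAt_fst, point_comp]
  exact IsPullback.of_horiz_isIso ⟨by rw [Category.id_comp, Category.comp_id]⟩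

theorem surjective_point : Function.Surjective ψ.toRingHom := fun c =>
  ⟨algebraMap k A c, ψ.commutes c⟩

theorem isClosedImmersion_slc : IsClosedImmersion (slc X ψ) :=
  MorphismProperty.of_isPullback (isPullback_slc X ψ).flip
    (IsClosedImmersion.spec_of_surjective _ (surjective_point ψ))

/-- The functions of the base on an open of `X` over `A`. -/
abbrev rhoO (O : (XA k X A).Opens) : A →+* Γ(XA k X A, O) :=
  ((XA k X A).presheaf.map (homOfLE (le_top : O ≤ ⊤)).op).hom.comp (Coh.toGlobal (piA k X A))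

theorem appTop_slc (a : A) :
    (slc X ψ).appTop (Coh.toGlobal (piA k X A) a) = Coh.toGlobal (X ↘ Spec (CommRingCat.of k)) (ψ a) := by
  have h := congrArg (fun φ => Scheme.Hom.appTop φ ((Scheme.ΓSpecIso (CommRingCat.of A)).inv a))
    (isPullback_slc X ψ).w
  simp only [Scheme.Hom.comp_appTop, CommRingCat.comp_apply] at h
  refine h.trans (congrArg ((X ↘ Spec (CommRingCat.of k)).appTop) ?_)
  exact (ConcreteCategory.congr_hom (Scheme.ΓSpecIso_inv_naturality (CommRingCat.ofHom ψ.toRingHom)) a).symm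

theorem appLE_rhoO (O : (XA k X A).Opens) {a : A} (ha : ψ a = 0) :
    (slc X ψ).appLE O ((slc X ψ) ⁻¹ᵁ O) le_rfl (rhoO X O a) = 0 := by
  show ((XA k X A).presheaf.map (homOfLE (le_top : O ≤ ⊤)).op ≫ (slc X ψ).appLE O ((slc X ψ) ⁻¹ᵁ O) le_rfl)
    (Coh.toGlobal (piA k X A) a) = 0
  rw [Scheme.Hom.map_appLE, Scheme.Hom.appLE, CommRingCat.comp_apply]
  show X.presheaf.map _ ((slc X ψ).appTop (Coh.toGlobal (piA k X A) a)) = 0
  rw [appTop_slc, ha, map_zero, map_zero]

/-- The sections killed at the point. -/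
abbrev killed (G : (XA k X A).Modules) (O : (XA k X A).Opens) : Submodule Γ(XA k X A, O) Γ(G, O) :=
  (RingHom.ker ψ.toRingHom).map (rhoO X O) • (⊤ : Submodule Γ(XA k X A, O) Γ(G, O))

theorem pullSec_killed (G : (XA k X A).Modules) (O : (XA k X A).Opens) {x : Γ(G, O)}
    (hx : x ∈ killed X ψ G O) : QCoh.pullSec (slc X ψ) G (le_refl ((slc X ψ) ⁻¹ᵁ O)) x = 0 := by
  refine Submodule.smul_induction_on hx (fun r hr y _ => ?_) fun a b ha hb => ?_
  · rw [QCoh.pullSec_smul]
    have : (slc X ψ).appLE O ((slc X ψ) ⁻¹ᵁ O) le_rfl r = 0 := by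
      refine Submodule.span_induction ?_ ?_ ?_ ?_ hr
      · rintro _ ⟨a, ha, rfl⟩; exact appLE_rhoO X ψ O (RingHom.mem_ker.1 ha)
      · exact map_zero _
      · intro a b _ _ ha hb; rw [map_add, ha, hb, add_zero]
      · intro c a _ ha; rw [smul_eq_mul, map_mul, ha, mul_zero]
    exact (congrArg (fun c => c • QCoh.pullSec (slc X ψ) G (le_refl ((slc X ψ) ⁻¹ᵁ O)) y) this).trans (zero_smul _ _)
  · rw [QCoh.pullSec_add, ha, hb, add_zero]

theorem pullSec_zero {Y Z : Scheme.{u}} (f : Y ⟶ Z) (M : Z.Modules) {V : Z.Opens} {W : Y.Opens}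
    (h : W ≤ f ⁻¹ᵁ V) : QCoh.pullSec f M h 0 = 0 := by
  unfold QCoh.pullSec
  rw [map_zero]
  exact map_zero _

/-- Sections over `O` restrict onto the sections of each fibre, with the expected kernel. -/
def SecBC (G : (XA k X A).Modules) (O : (XA k X A).Opens) : Prop :=
  ∀ ψ : A →ₐ[k] k, Function.Surjective (QCoh.pullSec (slc X ψ) G (le_refl ((slc X ψ) ⁻¹ᵁ O))) ∧
    ∀ x : Γ(G, O), QCoh.pullSec (slc X ψ) G (le_refl ((slc X ψ) ⁻¹ᵁ O)) x = 0 → x ∈ killed X ψ G O

theorem bijective_pullSec_opens {Y : Scheme.{u}} (O : Y.Opens) (G : Y.Modules)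
    (h : (⊤ : O.toScheme.Opens) ≤ O.ι ⁻¹ᵁ O) : Function.Bijective (QCoh.pullSec O.ι G h) := by
  have h1 : Function.Bijective fun s : Γ(G, O.ι ''ᵁ ⊤) =>
      QCoh.pullSec O.ι G (CohBCX.le_preimage_image O.ι ⊤) s := by
    have hb := (ConcreteCategory.isIso_iff_bijective
      (((Scheme.Modules.restrictFunctorIsoPullback O.ι).hom.app G).app ⊤)).1 inferInstance
    refine ⟨fun a b hab => hb.1 ?_, fun z => ?_⟩
    · exact (CohBCX.restrictIso_hom_app O.ι G ⊤ a).trans (hab.trans (CohBCX.restrictIso_hom_app O.ι G ⊤ b).symm)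
    · obtain ⟨a, rfl⟩ := hb.2 z
      exact ⟨a, (CohBCX.restrictIso_hom_app O.ι G ⊤ a).symm⟩
  have h2 : Function.Bijective (G.presheaf.map (homOfLE O.ι_image_top.le).op) := by
    refine (ConcreteCategory.isIso_iff_bijective _).1 ?_
    rw [show homOfLE O.ι_image_top.le = eqToHom O.ι_image_top from Subsingleton.elim _ _]
    infer_instance
  refine (show QCoh.pullSec O.ι G h = _ from funext fun x => ?_) ▸ h1.comp h2
  refine Eq.trans ?_ (ExistEasy.pullSec_res O.ι G (V := O) (W := ⊤) O.ι_image_top.le le_rfl h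
    (CohBCX.le_preimage_image O.ι ⊤) x)
  exact (QCoh.map_id' _ _).symm

attribute [local instance] FlatG.Pol.secR

/-- Flat cohomology over a piece makes restriction to the fibres surjective with the expected kernel. -/
theorem secBC_of_flat {G : (XA k X A).Modules} (hG : Coh.IsQCoh G) (hfl : FlatMod.IsFlatOver (piA k X A) G)
    (O : (XA k X A).Opens) [CompactSpace O.toScheme]
    (hH : ∀ n, letI := QCoh.modHH (Coh.toGlobal (O.ι ≫ piA k X A)) ((Scheme.Modules.pullback O.ι).obj G) n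
      Module.Flat A (Coh.HH O.toScheme ((Scheme.Modules.pullback O.ι).obj G) n)) :
    SecBC X G O := by
  intro ψ
  let P := XA k X A
  let s := slc X ψ
  let O' : X.Opens := s ⁻¹ᵁ O
  let g : O'.toScheme ⟶ O.toScheme := s ∣_ O
  let pA : O.toScheme ⟶ Spec (CommRingCat.of A) := O.ι ≫ piA k X A
  let pB : O'.toScheme ⟶ Spec (CommRingCat.of k) := O'.ι ≫ (X ↘ Spec (CommRingCat.of k))
  letI algψ : Algebra A k := ψ.toRingHom.toAlgebra
  have hsq : IsPullback g pB pA (Spec.map (CommRingCat.ofHom (algebraMap A k))) :=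
    ((isPullback_morphismRestrict s O).paste_vert (isPullback_slc X ψ))
  haveI : P.IsSeparated := ⟨by
    haveI : IsSeparated (piA k X A) := inferInstance
    rw [← Limits.terminal.comp_from (piA k X A)]
    infer_instance⟩
  haveI : O.toScheme.IsSeparated := ⟨by
    rw [← Limits.terminal.comp_from O.ι]
    infer_instance⟩
  letI : O.toScheme.Over (Spec (CommRingCat.of A)) := ⟨pA⟩
  letI : O'.toScheme.Over (Spec (CommRingCat.of k)) := ⟨pB⟩
  obtain ⟨κ, _, C, hcov, hC⟩ := QCoh.exists_affine_cover (X := O.toScheme)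
  let N := (Scheme.Modules.pullback O.ι).obj G
  have hN : Coh.IsQCoh N := QCoh.isQCoh_pullback _ hG
  have hflN : FlatMod.IsFlatOver pA N := fun x =>
    (S9350.result O.ι (piA k X A) G hG x (Flat.stalkMap O.ι x)).1 (hfl _)
  let ρ := Coh.toGlobal pA
  have hKfl : ∀ n, Module.Flat A ((QCoh.cxMod ρ C N).X n) := fun n => CohBCX.flat_cxMod ρ N C n fun σ => by
    let Vσ := ⨅ i, C (σ i)
    have hle : Vσ ≤ pA ⁻¹ᵁ ⊤ := le_top
    letI m2 : Module Γ(Spec (CommRingCat.of A), ⊤) Γ(N, Vσ) := Module.compHom _ (pA.appLE ⊤ Vσ hle).hom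
    haveI := (QCoh.isFlatOver_iff pA hN).1 hflN _ _ hle (hC σ) (isAffineOpen_top _)
    letI := QCoh.secModule ρ N Vσ
    let i := (Scheme.ΓSpecIso (CommRingCat.of A)).symm.commRingCatIsoToRingEquiv
    letI : Algebra A Γ(Spec (CommRingCat.of A), ⊤) := i.toRingHom.toAlgebra
    haveI : IsScalarTower A Γ(Spec (CommRingCat.of A), ⊤) Γ(N, Vσ) := .of_algebraMap_smul fun _ _ => rfl
    haveI : Module.Flat A Γ(Spec (CommRingCat.of A), ⊤) :=
      Module.Flat.of_linearEquiv (AlgEquiv.ofRingEquiv (f := i) fun _ => rfl).symm.toLinearEquiv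
    exact Module.Flat.trans A Γ(Spec (CommRingCat.of A), ⊤) Γ(N, Vσ)
  haveI : HasInjectiveResolutions O.toScheme.Modules := inferInstance
  have hKH : ∀ n, Module.Flat A ((QCoh.cxMod ρ C N).homology n) := fun n => by
    letI := QCoh.modHH ρ N n
    haveI := hH n
    obtain ⟨α⟩ := QCoh.cxMod_homology_equiv ρ C hcov hC hN n
    exact Module.Flat.of_linearEquiv α
  obtain ⟨t, ht⟩ := CohBCX.exists_vanish_tfun_cechA (A := A) hN C hcov hC
  obtain ⟨l, hl, hlb⟩ := CohBCX.exists_isBaseChange_pullMod g C (pA := pA) (pB := pB) hsq (F := N) hN hcov hC 0 hKfl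
    (CohBCX.preservesEpi_of_flat_homology hKfl hKH t ht 0)
  letI := QCoh.modHH ρ N 0
  letI := QCoh.modHH (Coh.toGlobal pB) ((Scheme.Modules.pullback g).obj N) 0
  letI := QCoh.modHH ((Coh.toGlobal pB).comp (algebraMap A k)) ((Scheme.Modules.pullback g).obj N) 0
  haveI : IsScalarTower A k (Coh.HH O'.toScheme ((Scheme.Modules.pullback g).obj N) 0) :=
    .of_algebraMap_smul fun _ _ => rfl
  obtain ⟨hls, hlk⟩ := QCoh.baseChange_surjection (surjective_point ψ) hlb
  let e := FlatG.h0Equiv A N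
  let e' := FlatG.h0Equiv k ((Scheme.Modules.pullback g).obj N)
  have key : ∀ x, e' (l x) = QCoh.pullSec g N (le_refl (g ⁻¹ᵁ ⊤)) (e x) := fun x => by
    rw [hl, CohBCX.pullMod_eq_pullVia]
    refine (CohBCX.equiv₀_pullVia g _ x).trans ?_
    exact (QCoh.map_id' (M := (Scheme.Modules.pullback g).obj N) _ _).symm
  let c := (Scheme.Modules.pullbackComp g O.ι).app G ≪≫
    (Scheme.Modules.pullbackCongr (morphismRestrict_ι s O)).app G ≪≫
    ((Scheme.Modules.pullbackComp O'.ι s).app G).symm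
  have hO : (⊤ : O.toScheme.Opens) ≤ O.ι ⁻¹ᵁ O := O.ι_preimage_self.ge
  have hO' : (⊤ : O'.toScheme.Opens) ≤ O'.ι ⁻¹ᵁ O' := O'.ι_preimage_self.ge
  have comm : ∀ x : Γ(G, O), c.hom.app ⊤ (QCoh.pullSec g N (le_refl (g ⁻¹ᵁ ⊤)) (QCoh.pullSec O.ι G hO x)) =
      QCoh.pullSec O'.ι ((Scheme.Modules.pullback s).obj G) hO' (QCoh.pullSec s G le_rfl x) := fun x => by
    have h1 := ExistEasy.pullSec_comp g O.ι G (U := ⊤) (W := ⊤) hO le_rfl x
    have h3 := ExistEasy.pullSec_comp O'.ι s G (U := O') (W := ⊤) le_rfl hO' x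
    refine (congrArg (((Scheme.Modules.pullbackComp O'.ι s).inv.app G).app ⊤)
      ((congrArg (((Scheme.Modules.pullbackCongr (morphismRestrict_ι s O)).hom.app G).app ⊤) h1).trans
        ((ExistEasy.pullSec_congr (morphismRestrict_ι s O) G _ x).trans h3.symm))).trans ?_
    exact congr($((Scheme.Modules.pullbackComp O'.ι s).hom_inv_id_app G).app ⊤ _)
  refine ⟨fun y => ?_, fun x hx => ?_⟩
  · obtain ⟨z, hz⟩ := hls (e'.symm (c.inv.app ⊤ (QCoh.pullSec O'.ι ((Scheme.Modules.pullback s).obj G) hO' y)))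
    obtain ⟨x, hx⟩ := (bijective_pullSec_opens O G hO).2 (e z)
    refine ⟨x, (bijective_pullSec_opens O' _ hO').1 ((comm x).symm.trans ?_)⟩
    refine (congrArg (fun w => c.hom.app ⊤ (QCoh.pullSec g N (le_refl (g ⁻¹ᵁ ⊤)) w)) hx).trans ?_
    rw [← key, hz, e'.apply_symm_apply]
    exact congr($(c.inv_hom_id).app ⊤ _)
  · have h0 : QCoh.pullSec g N (le_refl (g ⁻¹ᵁ ⊤)) (QCoh.pullSec O.ι G hO x) = 0 := by
      refine QCoh.app_injective c.hom ⊤ ?_
      rw [comm, map_zero]
      exact (congrArg (QCoh.pullSec O'.ι _ hO') hx).trans (pullSec_zero O'.ι _ hO')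
    have h1 : e.symm (QCoh.pullSec O.ι G hO x) ∈ LinearMap.ker l := by
      rw [LinearMap.mem_ker]
      refine e'.injective ?_
      rw [key, e.apply_symm_apply, map_zero]
      exact h0
    rw [hlk] at h1
    have h2 : QCoh.pullSec O.ι G hO x ∈ RingHom.ker (algebraMap A k) • (⊤ : Submodule A Γ(N, ⊤)) := by
      have h3 := Submodule.mem_map_of_mem (f := e.toLinearMap) h1
      rw [Submodule.map_smul''] at h3
      rw [← e.apply_symm_apply (QCoh.pullSec O.ι G hO x)]
      exact Submodule.smul_mono le_rfl le_top h3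
    have h4 : ∀ w ∈ RingHom.ker (algebraMap A k) • (⊤ : Submodule A Γ(N, ⊤)),
        ∃ v ∈ killed X ψ G O, QCoh.pullSec O.ι G hO v = w := by
      intro w hw
      refine Submodule.smul_induction_on hw (fun a ha y _ => ?_) fun a b ha hb => ?_
      · obtain ⟨v, rfl⟩ := (bijective_pullSec_opens O G hO).2 y
        refine ⟨rhoO X O a • v, Submodule.smul_mem_smul (Ideal.mem_map_of_mem _ ha) trivial, ?_⟩
        refine (QCoh.pullSec_smul O.ι G hO _ v).trans ?_
        refine congrArg (fun r : Γ(O.toScheme, ⊤) => r • QCoh.pullSec O.ι G hO v) ?_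
        show ((XA k X A).presheaf.map (homOfLE (le_top : O ≤ ⊤)).op ≫ O.ι.appLE O ⊤ hO)
            (Coh.toGlobal (piA k X A) a) = (O.toScheme.presheaf.map (homOfLE (le_top : (⊤ : O.toScheme.Opens) ≤ ⊤)).op)
            (Coh.toGlobal pA a)
        rw [Scheme.Hom.map_appLE, Scheme.Hom.appLE, CommRingCat.comp_apply]
        rfl
      · obtain ⟨v, hv, rfl⟩ := ha
        obtain ⟨v', hv', rfl⟩ := hb
        exact ⟨v + v', add_mem hv hv', QCoh.pullSec_add O.ι G hO v v'⟩
    obtain ⟨v, hv, hvx⟩ := h4 _ h2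
    rwa [← (bijective_pullSec_opens O G hO).1 hvx]

end Groth.Agent.Pic13Lib.Bdd
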