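import Groth.Agent.Pic13Lib.Bdd.Fibre
import Groth.Agent.GenFree.Basic
import Groth.Agent.QCoh.Bound
import Groth.Agent.S0002
import Groth.Agent.GrFlat5.FlatAtIso

/-!
# Sections restrict generically onto the fibres
-/

set_option autoImplicit false
set_option linter.style.haveILetI false
set_option linter.unusedSectionVars false
set_option backward.isDefEq.respectTransparency false
set_option backward.isDefEq.respectTransparency.types false
set_option maxHeartbeats 2000000

universe u

open CategoryTheory CategoryTheory.Limits AlgebraicGeometry TopologicalSpace Opposite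
open scoped TensorProduct

noncomputable section

namespace Groth.Agent.Pic13Lib.Bdd

open Groth.Agent

variable {k : Type u} [Field k] (X : Scheme.{u}) [X.Over (Spec (CommRingCat.of k))]
  [IsProper (X ↘ Spec (CommRingCat.of k))] (A : Type u) [CommRing A] [Algebra k A]

/-- An open of `X` over `A` which is proper over an affine scheme of finite type over `A`. -/
structure Piece where
  O : (XA k X A).Opens
  B : Type u
  [ring : CommRing B]
  [alg : Algebra A B]
  [ft : Algebra.FiniteType A B]
  p : O.toScheme ⟶ Spec (CommRingCat.of B)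
  proper : IsProper p
  comp_eq : p ≫ Spec.map (CommRingCat.ofHom (algebraMap A B)) = O.ι ≫ piA k X A

attribute [instance] Piece.ring Piece.alg Piece.ft

variable (B : Type u) [CommRing B] [Algebra k B] [Algebra A B] [IsScalarTower k A B]

theorem qA_comp : Spec.map (CommRingCat.ofHom (algebraMap A B)) ≫ qA k A = qA k B := by
  rw [← Spec.map_comp, ← CommRingCat.ofHom_comp, ← IsScalarTower.algebraMap_eq]

/-- The change of base ring. -/
abbrev pmA : XA k X B ⟶ XA k X A := pm (Spec.map (CommRingCat.ofHom (algebraMap A B))) (qA_comp A B)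

theorem isPullback_pmA : IsPullback (pmA X A B) (piA k X B) (piA k X A)
    (Spec.map (CommRingCat.ofHom (algebraMap A B))) := by
  refine IsPullback.of_right ?_ (pullback.lift_snd _ _ _)
    (IsPullback.of_hasPullback (X ↘ Spec (CommRingCat.of k)) (qA k A))
  rw [pullback.lift_fst, qA_comp]
  exact IsPullback.of_hasPullback _ _

theorem slc_pmA (ψ : B →ₐ[k] k) :
    slc X ψ ≫ pmA X A B = slc X (ψ.comp (IsScalarTower.toAlgHom k A B)) := by
  refine pullback.hom_ext ?_ ?_
  · rw [Category.assoc, pullback.lift_fst, sliceAt_fst, sliceAt_fst]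
  · rw [Category.assoc, pullback.lift_snd, ← Category.assoc, sliceAt_snd, sliceAt_snd, Category.assoc,
      ← Spec.map_comp]
    rfl

/-- After inverting one element, a coherent module is flat and its sections over finitely many pieces
restrict onto those of the fibres. -/
theorem exists_secBC [IsDomain A] [Algebra.FiniteType k A] {G : (XA k X A).Modules} (hG : Coh.IsCoh G)
    {ι : Type u} [Finite ι] (D : ι → Piece X A) :
    ∃ a : A, a ≠ 0 ∧ FlatMod.IsFlatOver (piA k X (Localization.Away a))
        ((Scheme.Modules.pullback (pmA X A (Localization.Away a))).obj G) ∧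
      ∀ i, SecBC X ((Scheme.Modules.pullback (pmA X A (Localization.Away a))).obj G)
        ((pmA X A (Localization.Away a)) ⁻¹ᵁ (D i).O) := by
  classical
  haveI := Fintype.ofFinite ι
  haveI : IsNoetherianRing A := Algebra.FiniteType.isNoetherianRing k A
  haveI : LocallyOfFiniteType (qA k A) := by
    rw [HasRingHomProperty.Spec_iff (P := @LocallyOfFiniteType)]
    exact RingHom.finiteType_algebraMap.2 inferInstance
  haveI := isLocallyNoetherian_prodK (X := X) (qA k A)
  haveI : IsProper (piA k X A) := MorphismProperty.pullback_snd _ _ inferInstance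
  -- flatness
  obtain ⟨U, ⟨u₀, hu₀⟩, hU⟩ := S4698.result (piA k X A) G hG
  obtain ⟨_, ⟨a₀, rfl⟩, ha₀, ha₀U⟩ := PrimeSpectrum.isTopologicalBasis_basic_opens.exists_subset_of_mem_open hu₀ U.2
  have ha₀0 : a₀ ≠ 0 := fun h => by
    rw [h] at ha₀
    exact ha₀ (Ideal.zero_mem _)
  -- cohomology
  have hcs : ∀ i, CompactSpace (D i).O.toScheme := fun i => by
    haveI := (D i).proper
    exact QuasiCompact.compactSpace_of_compactSpace (D i).p
  let M := fun i => (Scheme.Modules.pullback (D i).O.ι).obj G
  have hfin : ∀ i (n : ℕ), ∃ c : A, c ≠ 0 ∧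
      letI := QCoh.modHH (Coh.toGlobal ((D i).O.ι ≫ piA k X A)) (M i) n
      GenFree.GFree A c (Coh.HH (D i).O.toScheme (M i) n) := fun i n => by
    letI := (D i).proper
    letI : (D i).O.toScheme.Over (Spec (CommRingCat.of (D i).B)) := ⟨(D i).p⟩
    haveI : IsProper ((D i).O.toScheme ↘ Spec (CommRingCat.of (D i).B)) := (D i).proper
    haveI : IsNoetherianRing (D i).B := Algebra.FiniteType.isNoetherianRing A (D i).B
    haveI : IsLocallyNoetherian (D i).O.toScheme := LocallyOfFiniteType.isLocallyNoetherian (D i).O.ι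
    haveI := S0002.result (D i).B (D i).O.toScheme (M i) (ZClosLib.isCoh_pullback _ hG) n
    letI := QCoh.modHH (Coh.toGlobal ((D i).O.ι ≫ piA k X A)) (M i) n
    haveI : IsScalarTower A (D i).B (Coh.HH (D i).O.toScheme (M i) n) := .of_algebraMap_smul fun r x => by
      show Sheaf.H.map (Coh.smulAb (M i) (Coh.toGlobal (D i).p (algebraMap A (D i).B r))) n x =
        Sheaf.H.map (Coh.smulAb (M i) (Coh.toGlobal ((D i).O.ι ≫ piA k X A) r)) n x
      rw [← (D i).comp_eq, CohBCX.toGlobal_comp_specMap]
      rfl
    exact GenFree.exists_gfree (R := A) (D i).B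
  choose c hc0 hc using hfin
  have hb : ∀ i, ∃ d : ℕ, ∀ n, d ≤ n → Subsingleton (Coh.HH (D i).O.toScheme (M i) n) := fun i => by
    haveI := hcs i
    haveI : QuasiSeparatedSpace (D i).O.toScheme := quasiSeparatedSpace_of_quasiSeparated (D i).p
    obtain ⟨d, hd⟩ := QCoh.exists_HH_bound (X := (D i).O.toScheme)
    exact ⟨d, hd _ (QCoh.isQCoh_pullback _ hG.1)⟩
  choose d hd using hb
  let a := a₀ * ∏ i, ∏ n ∈ Finset.range (d i), c i n
  have ha : a ≠ 0 := mul_ne_zero ha₀0
    (Finset.prod_ne_zero_iff.2 fun i _ => Finset.prod_ne_zero_iff.2 fun n _ => hc0 i n)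
  have hdvd : ∀ i n, n < d i → c i n ∣ a := fun i n hn =>
    dvd_mul_of_dvd_right ((Finset.dvd_prod_of_mem (c i) (Finset.mem_range.2 hn)).trans
      (Finset.dvd_prod_of_mem (fun i => ∏ n ∈ Finset.range (d i), c i n) (Finset.mem_univ i))) _
  let A' := Localization.Away a
  let m := pmA (k := k) X A A'
  let G' := (Scheme.Modules.pullback m).obj G
  have hsq := isPullback_pmA (k := k) X A A'
  have hflat : FlatMod.IsFlatOver (piA k X A') G' := fun x => by
    refine MorLib.FlatBC.isFlatOverAt_baseChange (piA k X A) (piA k X A') m _ hsq G x (hU _ (ha₀U ?_))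
    rw [show (piA k X A) (m x) = PrimeSpectrum.comap (algebraMap A A') (piA k X A' x) from congr($(hsq.w).base x)]
    show a₀ ∉ ((PrimeSpectrum.comap (algebraMap A A') (piA k X A' x)).asIdeal)
    intro hmem
    have hu : IsUnit (algebraMap A A' a) := IsLocalization.Away.algebraMap_isUnit a
    rw [map_mul] at hu
    exact (piA k X A' x).isPrime.ne_top
      (Ideal.eq_top_of_isUnit_mem _ (Ideal.mem_comap.1 hmem) (isUnit_of_mul_isUnit_left hu))
  refine ⟨a, ha, hflat, fun i => ?_⟩
  haveI := hcs i
  haveI : IsAffineHom m := MorphismProperty.of_isPullback hsq.flip inferInstance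
  haveI : CompactSpace (m ⁻¹ᵁ (D i).O).toScheme :=
    QuasiCompact.compactSpace_of_compactSpace (m ∣_ (D i).O)
  refine secBC_of_flat X (QCoh.isQCoh_pullback m hG.1) hflat _ fun n => ?_
  let O := (D i).O
  let O' := m ⁻¹ᵁ O
  have hsq' : IsPullback (m ∣_ O) (O'.ι ≫ piA k X A') (O.ι ≫ piA k X A)
      (Spec.map (CommRingCat.ofHom (algebraMap A A'))) :=
    (isPullback_morphismRestrict m O).paste_vert hsq
  haveI : QuasiSeparatedSpace O.toScheme := by
    haveI := (D i).proper
    exact quasiSeparatedSpace_of_quasiSeparated (D i).p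
  haveI : Module.Flat A A' := IsLocalization.flat A' (Submonoid.powers a)
  obtain ⟨e⟩ := QCoh.HH_flatBaseChange (B := A') hsq' (QCoh.isQCoh_pullback O.ι hG.1) n
  letI := QCoh.modHH (Coh.toGlobal (O.ι ≫ piA k X A)) (M i) n
  have hT : Module.Flat A' (A' ⊗[A] Coh.HH O.toScheme (M i) n) := by
    by_cases hn : n < d i
    · haveI : IsLocalizedModule (Submonoid.powers a)
          (TensorProduct.mk A A' (Coh.HH O.toScheme (M i) n) 1) :=
        (isLocalizedModule_iff_isBaseChange (Submonoid.powers a) A' _).2
          (TensorProduct.isBaseChange A (Coh.HH O.toScheme (M i) n) A')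
      haveI : Module.Flat A (A' ⊗[A] Coh.HH O.toScheme (M i) n) :=
        FlatLoc6.flat_of_gfree (S := A) (Submonoid.powers a) (TensorProduct.mk A A' (Coh.HH O.toScheme (M i) n) 1)
          (f := a) (Submonoid.mem_powers a) ((hc i n).of_dvd (hdvd i n hn))
      exact (Module.flat_iff_of_isLocalization A' (Submonoid.powers a) _).2 inferInstance
    · haveI := hd i n (not_lt.1 hn)
      infer_instance
  let π : (Scheme.Modules.pullback O'.ι).obj G' ≅ (Scheme.Modules.pullback (m ∣_ O)).obj (M i) :=
    (Scheme.Modules.pullbackComp O'.ι m).app G ≪≫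
      (Scheme.Modules.pullbackCongr (morphismRestrict_ι m O).symm).app G ≪≫
      ((Scheme.Modules.pullbackComp (m ∣_ O) O.ι).app G).symm
  letI := QCoh.modHH (Coh.toGlobal (O'.ι ≫ piA k X A')) ((Scheme.Modules.pullback (m ∣_ O)).obj (M i)) n
  letI := QCoh.modHH (Coh.toGlobal (O'.ι ≫ piA k X A')) ((Scheme.Modules.pullback O'.ι).obj G') n
  exact Module.Flat.of_linearEquiv ((QCoh.HHcongr _ π n).trans e.symm)

end Groth.Agent.Pic13Lib.Bdd
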