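import Groth.Agent.ExistEasy.ChowNR.Exists
import Groth.Agent.ExistEasy.PP.PullSec
import Groth.Agent.QCoh.ArtinRees
import Groth.Agent.QCoh.AnnIdeal
import Groth.Agent.QCoh.DevissageSum
import Groth.Agent.QCoh.DevissageP
import Groth.Agent.Lib.Euler
import Groth.Agent.ZClosLib.CohDescent
import Groth.Agent.Pic13Lib.IntNum

/-!
# Coherent modules on proper schemes embed into direct images from projective schemes
-/

set_option autoImplicit false
set_option linter.style.haveILetI false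
set_option linter.unusedSectionVars false
set_option backward.isDefEq.respectTransparency false
set_option backward.isDefEq.respectTransparency.types false
set_option maxHeartbeats 1000000

universe u

open CategoryTheory CategoryTheory.Limits AlgebraicGeometry TopologicalSpace Opposite

noncomputable section

namespace Groth.Agent.Pic13Lib.Bdd

open Groth.Agent

variable {k : Type u} [Field k] {X : Scheme.{u}} [X.Over (Spec (CommRingCat.of k))]
  [IsProper (X ↘ Spec (CommRingCat.of k))]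

/-- Projective schemes over `X`: closed subschemes of projective spaces with a map to `X`. -/
structure ProjOver (k : Type u) [Field k] (X : Scheme.{u}) [X.Over (Spec (CommRingCat.of k))] where
  P : Scheme.{u}
  q : P ⟶ X
  n : ℕ
  i : P ⟶ CohB1.ProjSpace n k
  closed : IsClosedImmersion i
  comp_eq : i ≫ CohB1.ProjSpace.toSpec n k = q ≫ (X ↘ Spec (CommRingCat.of k))

theorem app_unit_eq_pullSec {Y Z : Scheme.{u}} (f : Y ⟶ Z) (M : Z.Modules) (V : Z.Opens) (x : Γ(M, V)) :
    ((Scheme.Modules.pullbackPushforwardAdjunction f).unit.app M).app V x = QCoh.pullSec f M le_rfl x :=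
  (QCoh.map_id' (M := (Scheme.Modules.pullback f).obj M) _ _).symm

/-- A section vanishing after pullback to every chart of a cover is zero there. -/
theorem pullSec_iso_eq_zero {Y Z : Scheme.{u}} (π : Y ⟶ Z) {U : Z.Opens} [IsIso (π ∣_ U)] {M : Z.Modules}
    (hM : Coh.IsQCoh M) {V : Z.Opens} (hV : IsAffineOpen V) (hVU : V ≤ U) (x : Γ(M, V))
    (h : QCoh.pullSec π M (le_refl (π ⁻¹ᵁ V)) x = 0) : x = 0 := by
  obtain ⟨W, rfl⟩ : ∃ W, U.ι ''ᵁ W = V := ⟨U.ι ⁻¹ᵁ V, by
    rw [Scheme.Hom.image_preimage_eq_opensRange_inf, Scheme.Opens.opensRange_ι]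
    exact inf_eq_right.mpr hVU⟩
  have hW : IsAffineOpen W := (U.ι.isAffineOpen_iff_of_isOpenImmersion).1 hV
  have hπV : IsAffineOpen (π ⁻¹ᵁ (U.ι ''ᵁ W)) := by
    rw [← image_morphismRestrict_preimage]
    exact (hW.preimage (π ∣_ U)).image_of_isOpenImmersion (π ⁻¹ᵁ U).ι
  have happ : IsIso (π.app (U.ι ''ᵁ W)) := by
    have h1 : IsIso ((π ∣_ U).app W) := inferInstance
    rw [morphismRestrict_app] at h1
    exact @IsIso.of_isIso_comp_right _ _ _ _ _ _ _ inferInstance h1
  let N := (Scheme.Modules.pullback π).obj M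
  letI : Algebra Γ(Z, U.ι ''ᵁ W) Γ(Y, π ⁻¹ᵁ (U.ι ''ᵁ W)) := (π.app (U.ι ''ᵁ W)).hom.toAlgebra
  letI : Module Γ(Z, U.ι ''ᵁ W) Γ(N, π ⁻¹ᵁ (U.ι ''ᵁ W)) := Module.compHom _ (π.app (U.ι ''ᵁ W)).hom
  haveI : IsScalarTower Γ(Z, U.ι ''ᵁ W) Γ(Y, π ⁻¹ᵁ (U.ι ''ᵁ W)) Γ(N, π ⁻¹ᵁ (U.ι ''ᵁ W)) :=
    ⟨fun a b c => mul_smul ((π.app (U.ι ''ᵁ W)).hom a) b c⟩
  let l : Γ(M, U.ι ''ᵁ W) →ₗ[Γ(Z, U.ι ''ᵁ W)] Γ(N, π ⁻¹ᵁ (U.ι ''ᵁ W)) :=
    { toFun := QCoh.pullSec π M le_rfl
      map_add' := QCoh.pullSec_add π M le_rfl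
      map_smul' := fun r x => (QCoh.pullSec_smul π M le_rfl r x).trans
        (congrArg (fun t => (t : Γ(Y, π ⁻¹ᵁ (U.ι ''ᵁ W))) • QCoh.pullSec π M le_rfl x)
          (by rw [← Scheme.Hom.app_eq_appLE]; rfl)) }
  have hb : IsBaseChange Γ(Y, π ⁻¹ᵁ (U.ι ''ᵁ W)) l :=
    QCoh.isBaseChange_pullback hV π hπV hM le_rfl (fun r => by rw [← Scheme.Hom.app_eq_appLE]; rfl) l fun x => rfl
  have hbij : Function.Bijective (algebraMap Γ(Z, U.ι ''ᵁ W) Γ(Y, π ⁻¹ᵁ (U.ι ''ᵁ W))) :=
    (ConcreteCategory.isIso_iff_bijective _).1 happ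
  let e := AlgEquiv.ofBijective (Algebra.ofId Γ(Z, U.ι ''ᵁ W) Γ(Y, π ⁻¹ᵁ (U.ι ''ᵁ W))) hbij
  have h1 : (1 : Γ(Y, π ⁻¹ᵁ (U.ι ''ᵁ W))) ⊗ₜ[Γ(Z, U.ι ''ᵁ W)] x = 0 := by
    apply hb.equiv.injective
    rw [hb.equiv_tmul, one_smul, map_zero]
    exact h
  have h2 := congrArg (fun z => TensorProduct.lid Γ(Z, U.ι ''ᵁ W) Γ(M, U.ι ''ᵁ W)
    (e.symm.toLinearMap.rTensor Γ(M, U.ι ''ᵁ W) z)) h1
  simpa using h2

/-- The joint unit maps to finitely many projective schemes are injective. -/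
def InjectsProj (k : Type u) [Field k] {X : Scheme.{u}} [X.Over (Spec (CommRingCat.of k))] (F : X.Modules) :
    Prop :=
  ∃ (N : ℕ) (D : Fin N → ProjOver k X), ∀ (V : X.Opens) (x : Γ(F, V)),
    (∀ l, QCoh.pullSec (D l).q F (le_refl ((D l).q ⁻¹ᵁ V)) x = 0) → x = 0

/-- Every coherent module on a proper scheme embeds into direct images from projective schemes. -/
theorem injectsProj_of_coh {F : X.Modules} (hF : Coh.IsCoh F) : InjectsProj k F := by
  haveI := CurveCohLib.isNoetherian_of_proper (k := k) (X := X)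
  suffices H : ∀ (C : Closeds X) (F : X.Modules), Coh.IsCoh F → CohB1.support F ⊆ (C : Set X) → InjectsProj k F from
    H ⊤ F hF (Set.subset_univ _)
  intro C
  induction C using WellFoundedLT.induction with
  | _ C ih =>
  intro F hF hsupp
  let J := QCoh.annIdeal hF.1 hF.2
  let i := J.subschemeι
  have hrange : Set.range i = CohB1.support F := by
    rw [Scheme.IdealSheafData.range_subschemeι]
    rfl
  have hi : IsIso ((Scheme.Modules.pullbackPushforwardAdjunction i).unit.app F) := by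
    refine (QCoh.isIso_unit_closed_iff i hF.1).2 fun U a ha s => ?_
    rw [Scheme.IdealSheafData.ker_subschemeι] at ha
    exact Module.mem_annihilator.1 ha s
  have hinj : ∀ (V : X.Opens) (x : Γ(F, V)), QCoh.pullSec i F (le_refl (i ⁻¹ᵁ V)) x = 0 → x = 0 := by
    intro V x hx
    refine QCoh.app_injective ((Scheme.Modules.pullbackPushforwardAdjunction i).unit.app F) V ?_
    rw [map_zero]
    exact (app_unit_eq_pullSec i F V x).trans hx
  by_cases hne : Nonempty J.subscheme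
  swap
  · refine ⟨0, fun l => l.elim0, fun V x _ => hinj V x ?_⟩
    haveI : IsEmpty J.subscheme := not_nonempty_iff.1 hne
    have hbot : i ⁻¹ᵁ V = ⊥ := bot_unique fun z _ => (isEmptyElim z : False).elim
    refine TopCat.Presheaf.section_ext ⟨((Scheme.Modules.pullback i).obj F).presheaf,
      ((Scheme.Modules.pullback i).obj F).isSheaf⟩ (i ⁻¹ᵁ V) _ _ fun z _ => (isEmptyElim z : False).elim
  let Zs := J.subscheme
  haveI : IsLocallyNoetherian Zs := LocallyOfFiniteType.isLocallyNoetherian i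
  haveI : CompactSpace Zs := i.isClosedEmbedding.compactSpace
  haveI : IsNoetherian Zs := ⟨⟩
  haveI : IsProper (i ≫ (X ↘ Spec (CommRingCat.of k))) := inferInstance
  obtain ⟨n, X', π, p, hp, hpw, hπ, U, hU, hUiso⟩ :=
    ExistEasy.ChowNR.exists_chow (i ≫ (X ↘ Spec (CommRingCat.of k)))
  haveI := hp; haveI := hπ; haveI := hUiso
  let D₀ : ProjOver k X := { P := X', q := π ≫ i, n := n, i := p, closed := hp, comp_eq := hpw.trans (Category.assoc _ _ _).symm }
  let F' := (Scheme.Modules.pullback i).obj F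
  have hF' : Coh.IsCoh F' := ZClosLib.isCoh_pullback _ hF
  let η := (Scheme.Modules.pullbackPushforwardAdjunction π).unit.app F'
  have hq : Coh.IsQCoh ((Scheme.Modules.pushforward π).obj ((Scheme.Modules.pullback π).obj F')) :=
    QCoh.isQCoh_pushforward π (QCoh.isQCoh_pullback π hF'.1)
  let K := kernel η
  have hK : Coh.IsCoh K := QCoh.isCoh_of_mono (kernel.ι η) hF' (QCoh.isQCoh_kernel hF'.1 hq η)
  let I := Scheme.IdealSheafData.vanishingIdeal (⟨(U : Set Zs)ᶜ, U.2.isClosed_compl⟩ : Closeds Zs)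
  have hI : (I.support : Set Zs) = (U : Set Zs)ᶜ := by
    rfl
  have hKs : CohB1.support K ⊆ (I.support : Set Zs) := by
    intro z hz
    rw [hI]
    intro hzU
    obtain ⟨_, ⟨(V : Zs.Opens), hV, rfl⟩, hzV, hVU⟩ :=
      Zs.isBasis_affineOpens.exists_subset_of_mem_open hzU U.2
    obtain ⟨m, hm⟩ := (QCoh.mem_support_iff hK.1 hV hzV).1 hz
    have hm0 : m = 0 := by
      refine QCoh.app_injective (kernel.ι η) V ((pullSec_iso_eq_zero π hF'.1 hV hVU _ ?_).trans (map_zero _).symm)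
      refine (app_unit_eq_pullSec π F' V _).symm.trans ?_
      exact congr(($(kernel.condition η)).app V m)
    exact hm 1 (by rw [Scheme.basicOpen_of_isUnit _ isUnit_one]; exact hzV) (by rw [hm0, smul_zero])
  obtain ⟨m, hmono⟩ := QCoh.exists_pow_mono hF' hK (kernel.ι η) I hKs
  haveI := hmono
  let j := (I ^ m).subschemeι
  let F'' := (Scheme.Modules.pushforward j).obj ((Scheme.Modules.pullback j).obj F')
  let G := (Scheme.Modules.pushforward i).obj F''
  let w : F ⟶ G := (Scheme.Modules.pullbackPushforwardAdjunction i).unit.app F ≫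
    (Scheme.Modules.pushforward i).map ((Scheme.Modules.pullbackPushforwardAdjunction j).unit.app F')
  haveI : IsLocallyNoetherian (I ^ m).subscheme := LocallyOfFiniteType.isLocallyNoetherian j
  have hF'' : Coh.IsCoh F'' := QCoh.isCoh_pushforward_finite j (ZClosLib.isCoh_pullback _ hF')
  have hG : Coh.IsCoh G := QCoh.isCoh_pushforward_finite i hF''
  let C' : Closeds X := ⟨i '' (U : Set Zs)ᶜ, i.isClosedEmbedding.isClosedMap _ U.2.isClosed_compl⟩
  have hsub : (CohB1.support G : Set X) ⊆ (C' : Set X) := by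
    refine (Groth.Agent.Pic13Lib.support_push_subset i hF'').trans (Set.image_mono ?_)
    refine (QCoh.support_push_subset j (QCoh.isQCoh_pullback j hF'.1)).trans ?_
    rw [Scheme.IdealSheafData.range_subschemeι, ← hI]
    cases m with
    | zero =>
      rw [pow_zero, Scheme.IdealSheafData.one_eq_top, Scheme.IdealSheafData.support_top]
      exact Set.empty_subset _
    | succ m => exact (congrArg (SetLike.coe) (Scheme.IdealSheafData.support_pow _ _ (Nat.succ_ne_zero m))).subset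
  have hlt : C' < C := by
    refine lt_of_le_of_ne (fun x hx => hsupp ?_) fun he => ?_
    · obtain ⟨z, -, rfl⟩ := hx
      rw [← hrange]
      exact ⟨z, rfl⟩
    · obtain ⟨z, hz⟩ := hU
      have h1 : i z ∈ (C' : Set X) := he ▸ hsupp (by rw [← hrange]; exact ⟨z, rfl⟩)
      obtain ⟨z', hz', he'⟩ := h1
      exact hz' (i.isClosedEmbedding.injective he' ▸ hz)
  obtain ⟨N, D, hD⟩ := ih C' hlt G hG hsub
  refine ⟨N + 1, Fin.cons D₀ D, fun V x hx => hinj V x ?_⟩
  let y : Γ(F', i ⁻¹ᵁ V) := QCoh.pullSec i F le_rfl x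
  have hy₁ : η.app (i ⁻¹ᵁ V) y = 0 := by
    have h0 : QCoh.pullSec (π ≫ i) F (le_refl ((π ≫ i) ⁻¹ᵁ V)) x = 0 := hx 0
    have h1 := ExistEasy.pullSec_comp π i F (U := i ⁻¹ᵁ V) (W := π ⁻¹ᵁ (i ⁻¹ᵁ V)) le_rfl le_rfl x
    refine (app_unit_eq_pullSec π F' _ y).trans ?_
    refine QCoh.app_injective ((Scheme.Modules.pullbackComp π i).hom.app F) _ ?_
    rw [map_zero]
    exact h1.trans h0
  have hy₂ : ((Scheme.Modules.pullbackPushforwardAdjunction j).unit.app F').app (i ⁻¹ᵁ V) y = 0 := by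
    have hw : w.app V x = 0 := hD V _ fun l => by
      have h0 : QCoh.pullSec (D l).q F (le_refl ((D l).q ⁻¹ᵁ V)) x = 0 := hx l.succ
      exact (ExistEasy.pullSec_natural (D l).q w le_rfl x).symm.trans
        ((congrArg (((Scheme.Modules.pullback (D l).q).map w).app _) h0).trans (map_zero _))
    refine (congrArg (((Scheme.Modules.pullbackPushforwardAdjunction j).unit.app F').app (i ⁻¹ᵁ V))
      (app_unit_eq_pullSec i F V x).symm).trans hw
  obtain ⟨z, hz⟩ := QCoh.exists_kernel_lift η (i ⁻¹ᵁ V) y hy₁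
  have hz0 : z = 0 := by
    refine QCoh.app_injective (kernel.ι η ≫ (Scheme.Modules.pullbackPushforwardAdjunction j).unit.app F')
      (i ⁻¹ᵁ V) ?_
    rw [map_zero]
    refine Eq.trans ?_ hy₂
    exact congrArg (((Scheme.Modules.pullbackPushforwardAdjunction j).unit.app F').app (i ⁻¹ᵁ V)) hz
  show y = 0
  rw [← hz, hz0, map_zero]

end Groth.Agent.Pic13Lib.Bdd
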