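import Groth.Agent.Pic13Lib.Bdd.GenBC
import Groth.Agent.FibreExact.Basic

/-!
# Exactness on the fibres of sequences with flat quotient, and bounded families of kernels
-/

set_option autoImplicit false
set_option linter.style.haveILetI false
set_option linter.unusedSectionVars false
set_option backward.isDefEq.respectTransparency false
set_option backward.isDefEq.respectTransparency.types false
set_option maxHeartbeats 2000000

universe u

open CategoryTheory CategoryTheory.Limits AlgebraicGeometry TopologicalSpace Opposite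

noncomputable section

namespace Groth.Agent.Pic13Lib.Bdd

open Groth.Agent

variable {k : Type u} [Field k] (X : Scheme.{u}) [X.Over (Spec (CommRingCat.of k))]
  [IsProper (X ↘ Spec (CommRingCat.of k))] {A : Type u} [CommRing A] [Algebra k A]

/-- The slice restricts sections over affine opens onto those of the fibre, with the expected kernel. -/
theorem slc_affine (ψ : A →ₐ[k] k) {M : (XA k X A).Modules} (hM : Coh.IsQCoh M) {U : (XA k X A).Opens}
    (hU : IsAffineOpen U) :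
    letI := QCoh.secModule (Coh.toGlobal (piA k X A)) M U
    Function.Surjective (QCoh.pullSec (slc X ψ) M (le_refl ((slc X ψ) ⁻¹ᵁ U))) ∧
      ∀ x : Γ(M, U), QCoh.pullSec (slc X ψ) M (le_refl ((slc X ψ) ⁻¹ᵁ U)) x = 0 →
        x ∈ RingHom.ker ψ.toRingHom • (⊤ : Submodule A Γ(M, U)) := by
  letI : Algebra A k := ψ.toRingHom.toAlgebra
  let ρ := Coh.toGlobal (piA k X A)
  let ρ' := Coh.toGlobal (X ↘ Spec (CommRingCat.of k))
  let N := (Scheme.Modules.pullback (slc X ψ)).obj M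
  letI := QCoh.secModule ρ M U
  letI := QCoh.secModule ρ' N ((slc X ψ) ⁻¹ᵁ U)
  letI := QCoh.secModule (ρ'.comp (algebraMap A k)) N ((slc X ψ) ⁻¹ᵁ U)
  haveI : IsScalarTower A k Γ(N, (slc X ψ) ⁻¹ᵁ U) := .of_algebraMap_smul fun _ _ => rfl
  letI : Module A Γ((𝟭 (XA k X A).Modules).obj M, U) := QCoh.secModule ρ M U
  have h := QCoh.isAffineBC_of_isPullback (A := A) (B := k) (isPullback_slc X ψ) hM U hU
  obtain ⟨hs, hk⟩ := QCoh.baseChange_surjection (surjective_point ψ) h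
  refine ⟨fun y => ?_, fun x hx => ?_⟩
  · obtain ⟨x, hx⟩ := hs y
    exact ⟨x, hx⟩
  · show x ∈ RingHom.ker (algebraMap A k) • _
    rw [← hk]
    exact LinearMap.mem_ker.2 hx

/-- The action of the base on sections. -/
theorem secModule_smul_eq (M : (XA k X A).Modules) (U : (XA k X A).Opens) (a : A) (x : Γ(M, U)) :
    (letI := QCoh.secModule (Coh.toGlobal (piA k X A)) M U; a • x) = rhoO X U a • x := rfl

theorem mem_killed_of_mem (ψ : A →ₐ[k] k) (M : (XA k X A).Modules) (U : (XA k X A).Opens) {x : Γ(M, U)}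
    (hx : letI := QCoh.secModule (Coh.toGlobal (piA k X A)) M U;
      x ∈ RingHom.ker ψ.toRingHom • (⊤ : Submodule A Γ(M, U))) : x ∈ killed X ψ M U := by
  letI := QCoh.secModule (Coh.toGlobal (piA k X A)) M U
  refine Submodule.smul_induction_on hx (fun a ha y _ => ?_) fun a b ha hb => add_mem ha hb
  exact Submodule.smul_mem_smul (Ideal.mem_map_of_mem _ ha) trivial

/-- Pullback to a fibre of an injection with flat cokernel is injective. -/
theorem mono_pullback_slc (ψ : A →ₐ[k] k) {S : ShortComplex (XA k X A).Modules} (hS : S.ShortExact)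
    (h₁ : Coh.IsQCoh S.X₁) (h₂ : Coh.IsQCoh S.X₂) (h₃ : Coh.IsQCoh S.X₃)
    (hfl : FlatMod.IsFlatOver (piA k X A) S.X₃) : Mono ((Scheme.Modules.pullback (slc X ψ)).map S.f) := by
  haveI := hS.mono_f
  haveI := hS.epi_g
  haveI := isClosedImmersion_slc X ψ
  refine QCoh.mono_of_isBasis _ (QCoh.isBasis_preimage_affine (slc X ψ)
    (slc X ψ).isClosedEmbedding.isInducing) ?_
  rintro _ ⟨U, hU, rfl⟩
  refine (injective_iff_map_eq_zero _).2 fun y hy => ?_
  obtain ⟨x, rfl⟩ := (slc_affine X ψ h₁ hU).1 y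
  rw [ExistEasy.pullSec_natural] at hy
  let ρ := Coh.toGlobal (piA k X A)
  letI := QCoh.secModule ρ S.X₁ U
  letI := QCoh.secModule ρ S.X₂ U
  letI := QCoh.secModule ρ S.X₃ U
  have hsm := (slc_affine X ψ h₂ hU).2 _ hy
  let f : Γ(S.X₁, U) →ₗ[A] Γ(S.X₂, U) :=
    { toFun := S.f.app U
      map_add' := map_add (S.f.app U).hom
      map_smul' := fun a z => Scheme.Modules.Hom.app_smul S.f (rhoO X U a) z }
  let g : Γ(S.X₂, U) →ₗ[A] Γ(S.X₃, U) :=
    { toFun := S.g.app U
      map_add' := map_add (S.g.app U).hom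
      map_smul' := fun a z => Scheme.Modules.Hom.app_smul S.g (rhoO X U a) z }
  have hgs : Function.Surjective g := QCoh.app_surjective_of_epi h₂ h₃ S.g hU
  have hker : LinearMap.range f = LinearMap.ker g := by
    refine le_antisymm ?_ fun z hz => ?_
    · rintro _ ⟨z, rfl⟩
      exact congr(($(S.zero)).app U z)
    · obtain ⟨w, hw⟩ := QCoh.exists_app_f_eq hS U z hz
      exact ⟨w, hw⟩
  haveI : Module.Flat A Γ(S.X₃, U) := by
    letI m2 : Module Γ(Spec (CommRingCat.of A), ⊤) Γ(S.X₃, U) :=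
      Module.compHom _ ((piA k X A).appLE ⊤ U le_top).hom
    haveI := (QCoh.isFlatOver_iff (piA k X A) h₃).1 hfl U ⊤ le_top hU (isAffineOpen_top _)
    let i := (Scheme.ΓSpecIso (CommRingCat.of A)).symm.commRingCatIsoToRingEquiv
    letI : Algebra A Γ(Spec (CommRingCat.of A), ⊤) := i.toRingHom.toAlgebra
    haveI : IsScalarTower A Γ(Spec (CommRingCat.of A), ⊤) Γ(S.X₃, U) := .of_algebraMap_smul fun _ _ => rfl
    haveI : Module.Flat A Γ(Spec (CommRingCat.of A), ⊤) :=
      Module.Flat.of_linearEquiv (AlgEquiv.ofRingEquiv (f := i) fun _ => rfl).symm.toLinearEquiv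
    exact Module.Flat.trans A Γ(Spec (CommRingCat.of A), ⊤) Γ(S.X₃, U)
  haveI : Module.Flat A (Γ(S.X₂, U) ⧸ LinearMap.range f) :=
    Module.Flat.of_linearEquiv ((Submodule.quotEquivOfEq _ _ hker).trans (g.quotKerEquivOfSurjective hgs))
  have h4 := FibreExact.mem_smul_top_of_flat_quotient (RingHom.ker ψ.toRingHom) (LinearMap.range f) (f.rangeRestrict x) hsm
  have hfi : Function.Injective f := QCoh.app_injective S.f U
  let e := LinearEquiv.ofInjective f hfi
  have h5 := Submodule.mem_map_of_mem (f := e.symm.toLinearMap) h4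
  rw [Submodule.map_smul''] at h5
  have h6 : e.symm (f.rangeRestrict x) = x := e.symm_apply_apply x
  have h7 : x ∈ RingHom.ker ψ.toRingHom • (⊤ : Submodule A Γ(S.X₁, U)) := by
    rw [← h6]
    exact Submodule.smul_mono le_rfl le_top h5
  exact pullSec_killed X ψ S.X₁ U (mem_killed_of_mem X ψ S.X₁ U h7)

theorem nonempty_kernel_arrow {C : Type*} [Category C] [HasZeroMorphisms C] [HasKernels C] {A B A' B' : C}
    {f : A ⟶ B} {f' : A' ⟶ B'} (a : A ≅ A') (b : B ≅ B') (w : f ≫ b.hom = a.hom ≫ f') :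
    Nonempty (kernel f ≅ kernel f') :=
  ⟨kernel.mapIso _ _ a b w⟩

/-- The members at rational points. -/
theorem isBounded_of_family (B : Type u) [CommRing B] [Algebra k B] [Algebra.FiniteType k B]
    {G : (XA k X B).Modules} (hG : Coh.IsCoh G) :
    Pic13.IsBounded k X fun L => ∃ ψ : B →ₐ[k] k, Nonempty ((Scheme.Modules.pullback (slc X ψ)).obj G ≅ L) := by
  haveI : LocallyOfFiniteType (qA k B) := by
    rw [HasRingHomProperty.Spec_iff (P := @LocallyOfFiniteType)]
    exact RingHom.finiteType_algebraMap.2 inferInstance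
  exact ⟨_, qA k B, inferInstance, inferInstance, G, hG, fun L ⟨ψ, e⟩ => ⟨_, point_comp ψ, e⟩⟩

/-- A rational point outside a principal closed set is a point of the localization. -/
theorem exists_lift_away (a : A) (ψ : A →ₐ[k] k) (h : ψ a ≠ 0) :
    ∃ ψ' : Localization.Away a →ₐ[k] k, ψ'.comp (IsScalarTower.toAlgHom k A (Localization.Away a)) = ψ := by
  have hu : IsUnit (ψ.toRingHom a) := isUnit_iff_ne_zero.2 h
  let l : Localization.Away a →+* k := IsLocalization.Away.lift a hu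
  have hl : ∀ x, l (algebraMap A _ x) = ψ x := fun x => IsLocalization.Away.lift_eq a hu x
  refine ⟨{ l with commutes' := fun c => ?_ }, AlgHom.ext hl⟩
  show l (algebraMap k _ c) = _
  rw [IsScalarTower.algebraMap_apply k A (Localization.Away a), hl, AlgHom.commutes]

/-- A nonzero element of a localization is inverted by a nonzero element of the ring. -/
theorem exists_num [IsDomain A] (a : A) (b : Localization.Away a) (hb : b ≠ 0) :
    ∃ c : A, c ≠ 0 ∧ ∀ ψ' : Localization.Away a →ₐ[k] k,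
      ψ'.comp (IsScalarTower.toAlgHom k A (Localization.Away a)) c ≠ 0 → ψ' b ≠ 0 := by
  obtain ⟨n, x, hx⟩ := IsLocalization.Away.surj a b
  refine ⟨x, fun h0 => hb ?_, fun ψ' h h0 => h ?_⟩
  · rw [h0, map_zero] at hx
    exact ((IsLocalization.Away.algebraMap_isUnit a).pow n).mul_left_eq_zero.1 hx
  · show ψ' (algebraMap A _ x) = 0
    rw [← hx, map_mul, h0, zero_mul]

/-- A family is bounded if it is so generically over every integral affine base of finite type. -/
theorem isBounded_of_generic' {T : Scheme.{u}} (q : T ⟶ Spec (CommRingCat.of k)) [LocallyOfFiniteType q]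
    [QuasiCompact q] (R : (Spec (CommRingCat.of k) ⟶ T) → X.Modules → Prop)
    (h : ∀ (A : Type u) [CommRing A] [IsDomain A] [Algebra k A] [Algebra.FiniteType k A]
      (j : Spec (CommRingCat.of A) ⟶ T) (_ : j ≫ q = qA k A),
      ∃ a : A, a ≠ 0 ∧ Pic13.IsBounded k X fun L =>
        ∃ ψ : A →ₐ[k] k, ψ a ≠ 0 ∧ R (Spec.map (CommRingCat.ofHom ψ.toRingHom) ≫ j) L) :
    Pic13.IsBounded k X fun L => ∃ t : Spec (CommRingCat.of k) ⟶ T, t ≫ q = 𝟙 _ ∧ R t L := by
  refine isBounded_of_generic q R fun T' j q' hj _ _ _ _ => ?_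
  let B := Γ(T', ⊤)
  let e : T' ≅ Spec B := T'.isoSpec
  obtain ⟨φ, hφ⟩ : ∃ φ : CommRingCat.of k ⟶ B, Spec.map φ = e.inv ≫ q' := ⟨_, Spec.map_preimage _⟩
  letI : Algebra k B := φ.hom.toAlgebra
  haveI : Algebra.FiniteType k B := by
    have h1 : LocallyOfFiniteType (Spec.map φ) := by rw [hφ]; infer_instance
    rw [HasRingHomProperty.Spec_iff (P := @LocallyOfFiniteType)] at h1
    exact RingHom.finiteType_algebraMap.1 h1
  have hq : (e.inv ≫ j) ≫ q = qA k B := by
    rw [Category.assoc, hj, ← hφ]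
    rfl
  obtain ⟨a, ha, hb⟩ := h B (e.inv ≫ j) hq
  refine ⟨e.hom ⁻¹ᵁ PrimeSpectrum.basicOpen a, ?_, isBounded_mono ?_ hb⟩
  · refine ⟨e.inv ⟨⊥, Ideal.isPrime_bot⟩, ?_⟩
    show e.hom (e.inv ⟨⊥, Ideal.isPrime_bot⟩) ∈ PrimeSpectrum.basicOpen a
    rw [← Scheme.Hom.comp_apply, e.inv_hom_id]
    exact fun h0 => ha (Ideal.mem_bot.1 h0)
  rintro L ⟨t', ht', hm, hR⟩
  obtain ⟨θ, hθ⟩ : ∃ θ : B ⟶ CommRingCat.of k, Spec.map θ = t' ≫ e.hom := ⟨_, Spec.map_preimage _⟩
  have hc : φ ≫ θ = 𝟙 _ := Spec.map_injective (by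
    rw [Spec.map_comp, hθ, hφ, Category.assoc, e.hom_inv_id_assoc, ht', Spec.map_id])
  refine ⟨{ θ.hom with commutes' := fun c => congr($hc c) }, fun h0 => ?_, ?_⟩
  · have h1 : Spec.map θ (IsLocalRing.closedPoint k) ∈ PrimeSpectrum.basicOpen a := by
      rw [hθ]; exact hm
    refine h1 ?_
    show θ a ∈ IsLocalRing.maximalIdeal k
    rw [show θ a = 0 from h0]
    exact zero_mem _
  · show R (Spec.map θ ≫ e.inv ≫ j) L
    rwa [hθ, Category.assoc, e.hom_inv_id_assoc]

/-- The fibre of a map pulled back twice. -/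
theorem nonempty_arrow_comp {Y Z W : Scheme.{u}} (f : Y ⟶ Z) (g : Z ⟶ W) {h : Y ⟶ W} (e : f ≫ g = h)
    {M N : W.Modules} (φ : M ⟶ N) :
    ∃ (a : (Scheme.Modules.pullback f).obj ((Scheme.Modules.pullback g).obj M) ≅ (Scheme.Modules.pullback h).obj M)
      (b : (Scheme.Modules.pullback f).obj ((Scheme.Modules.pullback g).obj N) ≅ (Scheme.Modules.pullback h).obj N),
      (Scheme.Modules.pullback f).map ((Scheme.Modules.pullback g).map φ) ≫ b.hom =
        a.hom ≫ (Scheme.Modules.pullback h).map φ := by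
  subst e
  exact ⟨(Scheme.Modules.pullbackComp f g).app M, (Scheme.Modules.pullbackComp f g).app N,
    (Scheme.Modules.pullbackComp f g).hom.naturality φ⟩

/-- Kernels of the fibres of a map of coherent families form a bounded family. -/
theorem isBounded_kernel {T : Scheme.{u}} (q : T ⟶ Spec (CommRingCat.of k)) [LocallyOfFiniteType q]
    [QuasiCompact q] {F H : (Pic13.prodK k X q).Modules} (hF : Coh.IsCoh F) (hH : Coh.IsCoh H) (Φ : F ⟶ H) :
    Pic13.IsBounded k X fun L => ∃ (t : Spec (CommRingCat.of k) ⟶ T) (ht : t ≫ q = 𝟙 _),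
      Nonempty (kernel ((Scheme.Modules.pullback (Pic13.sliceAt k X q t ht)).map Φ) ≅ L) := by
  refine isBounded_mono (fun L ⟨t, ht, e⟩ => ⟨t, ht, ht, e⟩)
    (isBounded_of_generic' X q (fun t L => ∃ ht : t ≫ q = 𝟙 _,
      Nonempty (kernel ((Scheme.Modules.pullback (Pic13.sliceAt k X q t ht)).map Φ) ≅ L)) ?_)
  intro A _ _ _ _ j hj
  haveI hqa : LocallyOfFiniteType (qA k A) := by
    rw [HasRingHomProperty.Spec_iff (P := @LocallyOfFiniteType)]
    exact RingHom.finiteType_algebraMap.2 inferInstance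
  haveI := isLocallyNoetherian_prodK (X := X) (qA k A)
  let g := Scheme.Modules.pullback (pm (X := X) j hj)
  haveI : g.IsLeftAdjoint := (Scheme.Modules.pullbackPushforwardAdjunction _).isLeftAdjoint
  let FA := g.obj F
  let HA := g.obj H
  let ΦA : FA ⟶ HA := g.map Φ
  have hFA : Coh.IsCoh FA := ZClosLib.isCoh_pullback _ hF
  have hHA : Coh.IsCoh HA := ZClosLib.isCoh_pullback _ hH
  obtain ⟨a, ha, hflC, -⟩ := exists_secBC X A (QCoh.isCoh_cokernel hFA.1 hHA ΦA)
    (ι := PEmpty) (fun i => i.elim)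
  let A₁ := Localization.Away a
  haveI : Algebra.FiniteType A A₁ := inferInstance
  haveI : Algebra.FiniteType k A₁ := Algebra.FiniteType.trans (S := A) inferInstance inferInstance
  haveI : IsDomain A₁ := IsLocalization.isDomain_localization
    (powers_le_nonZeroDivisors_of_noZeroDivisors ha)
  haveI hqa₁ : LocallyOfFiniteType (qA k A₁) := by
    rw [HasRingHomProperty.Spec_iff (P := @LocallyOfFiniteType)]
    exact RingHom.finiteType_algebraMap.2 inferInstance
  haveI := isLocallyNoetherian_prodK (X := X) (qA k A₁)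
  let g₁ := Scheme.Modules.pullback (pmA (k := k) X A A₁)
  haveI : g₁.IsLeftAdjoint := (Scheme.Modules.pullbackPushforwardAdjunction _).isLeftAdjoint
  let Φ₁ := g₁.map ΦA
  have hF₁ : Coh.IsCoh (g₁.obj FA) := ZClosLib.isCoh_pullback _ hFA
  have hH₁ : Coh.IsCoh (g₁.obj HA) := ZClosLib.isCoh_pullback _ hHA
  let I₁ := kernel (cokernel.π Φ₁)
  let e₁ : g₁.obj FA ⟶ I₁ := kernel.lift _ Φ₁ (cokernel.condition _)
  haveI : Epi e₁ := by
    rw [show e₁ = Abelian.factorThruImage Φ₁ from (cancel_mono (kernel.ι (cokernel.π Φ₁))).1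
      ((kernel.lift_ι _ _ _).trans (Abelian.image.fac Φ₁).symm)]
    infer_instance
  have hI₁ : Coh.IsCoh I₁ := QCoh.isCoh_kernel hH₁ (QCoh.isCoh_cokernel hF₁.1 hH₁ Φ₁) _
  have hflC₁ : FlatMod.IsFlatOver (piA k X A₁) (cokernel Φ₁) :=
    LimModLib.isFlatOver_of_iso _ (PreservesCokernel.iso g₁ ΦA) hflC
  obtain ⟨b, hb, hflI, -⟩ := exists_secBC X A₁ hI₁ (ι := PEmpty) (fun i => i.elim)
  let A₂ := Localization.Away b
  haveI : Algebra.FiniteType A₁ A₂ := inferInstance
  haveI : Algebra.FiniteType k A₂ := Algebra.FiniteType.trans (S := A₁) inferInstance inferInstance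
  haveI hqa₂ : LocallyOfFiniteType (qA k A₂) := by
    rw [HasRingHomProperty.Spec_iff (P := @LocallyOfFiniteType)]
    exact RingHom.finiteType_algebraMap.2 inferInstance
  haveI := isLocallyNoetherian_prodK (X := X) (qA k A₂)
  let g₂ := Scheme.Modules.pullback (pmA (k := k) X A₁ A₂)
  haveI : g₂.IsLeftAdjoint := (Scheme.Modules.pullbackPushforwardAdjunction _).isLeftAdjoint
  let e₂ := g₂.map e₁
  haveI : Epi e₂ := inferInstanceAs (Epi (g₂.map e₁))
  have hI₂ : Coh.IsCoh (g₂.obj I₁) := ZClosLib.isCoh_pullback _ hI₁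
  have hF₂ : Coh.IsCoh (g₂.obj (g₁.obj FA)) := ZClosLib.isCoh_pullback _ hF₁
  let K := kernel e₂
  have hK : Coh.IsCoh K := QCoh.isCoh_kernel hF₂ hI₂ _
  obtain ⟨c, hc, hcb⟩ := exists_num (k := k) a b hb
  refine ⟨a * c, mul_ne_zero ha hc, isBounded_mono ?_ (isBounded_of_family X A₂ hK)⟩
  rintro L ⟨ψ, hψ, ht, ⟨eL⟩⟩
  rw [map_mul] at hψ
  obtain ⟨ψ₁, hψ₁⟩ := exists_lift_away a ψ (left_ne_zero_of_mul hψ)
  obtain ⟨ψ₂, hψ₂⟩ := exists_lift_away b ψ₁ (hcb ψ₁ (by rw [hψ₁]; exact right_ne_zero_of_mul hψ))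
  refine ⟨ψ₂, ?_⟩
  let S₁ : ShortComplex (XA k X A₁).Modules :=
    ShortComplex.mk (kernel.ι (cokernel.π Φ₁)) (cokernel.π Φ₁) (kernel.condition _)
  have hS₁ : S₁.ShortExact :=
    { exact := ShortComplex.exact_kernel _, mono_f := inferInstanceAs (Mono (kernel.ι (cokernel.π Φ₁))),
      epi_g := inferInstanceAs (Epi (cokernel.π Φ₁)) }
  let s₁ := Scheme.Modules.pullback (slc X ψ₁)
  haveI hm₁ : Mono (s₁.map (kernel.ι (cokernel.π Φ₁))) :=
    mono_pullback_slc X ψ₁ hS₁ hI₁.1 hH₁.1 (QCoh.isCoh_cokernel hF₁.1 hH₁ Φ₁).1 hflC₁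
  let S₂ : ShortComplex (XA k X A₂).Modules := ShortComplex.mk (kernel.ι e₂) e₂ (kernel.condition _)
  have hS₂ : S₂.ShortExact :=
    { exact := ShortComplex.exact_kernel _, mono_f := inferInstanceAs (Mono (kernel.ι e₂)),
      epi_g := inferInstanceAs (Epi e₂) }
  let s₂ := Scheme.Modules.pullback (slc X ψ₂)
  haveI : s₂.IsLeftAdjoint := (Scheme.Modules.pullbackPushforwardAdjunction _).isLeftAdjoint
  haveI hm₂ : Mono (s₂.map (kernel.ι e₂)) := mono_pullback_slc X ψ₂ hS₂ hK.1 hF₂.1 hI₂.1 hflI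
  haveI : s₂.Additive := inferInstance
  have hex : (S₂.map s₂).Exact :=
    hS₂.exact.map_of_epi_of_preservesCokernel s₂ hS₂.epi_g inferInstance
  haveI : Mono (S₂.map s₂).f := hm₂
  let l₂ : s₂.obj K ≅ kernel (s₂.map e₂) :=
    (hex.fIsKernel).conePointUniqueUpToIso (limit.isLimit _)
  obtain ⟨p, p', hp⟩ := nonempty_arrow_comp (slc X ψ₂) (pmA (k := k) X A₁ A₂) (h := slc X ψ₁)
    ((slc_pmA X A₁ A₂ ψ₂).trans (by rw [hψ₂])) e₁
  obtain ⟨i₁⟩ := nonempty_kernel_arrow p p' hp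
  obtain ⟨i₂⟩ : Nonempty (kernel (s₁.map e₁) ≅ kernel (s₁.map e₁ ≫ s₁.map (kernel.ι (cokernel.π Φ₁)))) :=
    ⟨(kernelCompMono (s₁.map e₁) (s₁.map (kernel.ι (cokernel.π Φ₁)))).symm⟩
  have hfac : s₁.map e₁ ≫ s₁.map (kernel.ι (cokernel.π Φ₁)) = s₁.map Φ₁ := by
    rw [← Functor.map_comp, kernel.lift_ι]
  obtain ⟨r, r', hr⟩ := nonempty_arrow_comp (slc X ψ₁) (pmA (k := k) X A A₁) (h := slc X ψ)
    ((slc_pmA X A A₁ ψ₁).trans (by rw [hψ₁])) ΦA
  obtain ⟨i₃⟩ := nonempty_kernel_arrow r r' hr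
  obtain ⟨v, v', hv⟩ := nonempty_arrow_comp (slc X ψ) (pm (X := X) j hj)
    (h := Pic13.sliceAt k X q (Spec.map (CommRingCat.ofHom ψ.toRingHom) ≫ j) ht)
    (slice_pm j hj _ (point_comp ψ) ht) Φ
  obtain ⟨i₄⟩ := nonempty_kernel_arrow v v' hv
  exact ⟨l₂ ≪≫ i₁ ≪≫ i₂ ≪≫ kernelIsoOfEq hfac ≪≫ i₃ ≪≫ i₄ ≪≫ eL⟩

end Groth.Agent.Pic13Lib.Bdd
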