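import Groth.Agent.Pic13Lib.Bdd.Mono
import Groth.Agent.Pic13Lib.Bdd.Beta
import Groth.Agent.ExistEasy.PP.HatLemmas

/-!
# Direct images of bounded families are bounded
-/

set_option autoImplicit false
set_option linter.style.haveILetI false
set_option linter.unusedSectionVars false
set_option backward.isDefEq.respectTransparency false
set_option backward.isDefEq.respectTransparency.types false
set_option maxHeartbeats 2000000

universe u

open CategoryTheory CategoryTheory.Limits AlgebraicGeometry TopologicalSpace Opposite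

noncomputable section

namespace Groth.Agent.Pic13Lib.Bdd

open Groth.Agent

variable {k : Type u} [Field k] {P X : Scheme.{u}} [P.Over (Spec (CommRingCat.of k))]
  [IsProper (P ↘ Spec (CommRingCat.of k))] [X.Over (Spec (CommRingCat.of k))]
  [IsProper (X ↘ Spec (CommRingCat.of k))] (q : P ⟶ X)
  (hq : q ≫ (X ↘ Spec (CommRingCat.of k)) = P ↘ Spec (CommRingCat.of k))

section Product

variable {T : Scheme.{u}} (r : T ⟶ Spec (CommRingCat.of k))

/-- The morphism of products induced by `q`. -/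
abbrev qProd : Pic13.prodK k P r ⟶ Pic13.prodK k X r :=
  pullback.lift (pullback.fst _ _ ≫ q) (pullback.snd _ _) (by rw [Category.assoc, hq]; exact pullback.condition)

include hq in
theorem isProper_qProd : IsProper (qProd q hq r) := by
  haveI : IsProper (pullback.snd (P ↘ Spec (CommRingCat.of k)) r) := MorphismProperty.pullback_snd _ _ inferInstance
  haveI : IsProper (pullback.snd (X ↘ Spec (CommRingCat.of k)) r) := MorphismProperty.pullback_snd _ _ inferInstance
  haveI : IsProper (qProd q hq r ≫ pullback.snd (X ↘ Spec (CommRingCat.of k)) r) := by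
    rw [pullback.lift_snd]; infer_instance
  exact IsProper.of_comp (qProd q hq r) (pullback.snd (X ↘ Spec (CommRingCat.of k)) r)

theorem slice_qProd (t : Spec (CommRingCat.of k) ⟶ T) (ht : t ≫ r = 𝟙 _) :
    Pic13.sliceAt k P r t ht ≫ qProd q hq r = q ≫ Pic13.sliceAt k X r t ht := by
  refine pullback.hom_ext ?_ ?_
  · rw [Category.assoc, Category.assoc, pullback.lift_fst, ← Category.assoc, sliceAt_fst, Category.id_comp,
      sliceAt_fst, Category.comp_id]
  · rw [Category.assoc, Category.assoc, pullback.lift_snd, sliceAt_snd, sliceAt_snd, ← Category.assoc, hq]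

theorem pm_qProd {T' : Scheme.{u}} (j : T' ⟶ T) {r' : T' ⟶ Spec (CommRingCat.of k)} (hj : j ≫ r = r') :
    pm (X := P) j hj ≫ qProd q hq r = qProd q hq r' ≫ pm (X := X) j hj := by
  refine pullback.hom_ext ?_ ?_
  · rw [Category.assoc, Category.assoc, pullback.lift_fst, pullback.lift_fst, pullback.lift_fst,
      pullback.lift_fst_assoc]
  · rw [Category.assoc, Category.assoc, pullback.lift_snd, pullback.lift_snd, pullback.lift_snd,
      pullback.lift_snd_assoc]

end Product

variable (A : Type u) [CommRing A] [Algebra k A]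

/-- An open of `X` over `A` lying above an open of `X`. -/
abbrev above (V : X.Opens) : (XA k X A).Opens := pullback.fst (X ↘ Spec (CommRingCat.of k)) (qA k A) ⁻¹ᵁ V

theorem isAffineOpen_above {V : X.Opens} (hV : IsAffineOpen V) : IsAffineOpen (above A V : (XA k X A).Opens) := by
  haveI : IsAffineHom (pullback.fst (X ↘ Spec (CommRingCat.of k)) (qA k A)) :=
    MorphismProperty.pullback_fst _ _ inferInstance
  exact hV.preimage _

variable [Algebra.FiniteType k A]

/-- Direct image pieces. -/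
def pieceOver {V : X.Opens} (hV : IsAffineOpen V) : Piece (k := k) P A :=
  let U : (XA k X A).Opens := above A V
  have hU : IsAffineOpen U := isAffineOpen_above A hV
  letI : Algebra A Γ(XA k X A, U) :=
    ((Scheme.ΓSpecIso (CommRingCat.of A)).inv ≫ (piA k X A).appLE ⊤ U le_top).hom.toAlgebra
  haveI : Algebra.FiniteType A Γ(XA k X A, U) := by
    haveI : IsProper (piA k X A) := MorphismProperty.pullback_snd _ _ inferInstance
    refine RingHom.finiteType_algebraMap.1 ?_
    show RingHom.FiniteType ((Scheme.ΓSpecIso (CommRingCat.of A)).inv ≫ (piA k X A).appLE ⊤ U le_top).hom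
    exact RingHom.FiniteType.comp
      (LocallyOfFiniteType.finiteType_appLE (piA k X A) (isAffineOpen_top _) hU le_top)
      (RingHom.FiniteType.of_surjective _
        ((ConcreteCategory.isIso_iff_bijective (Scheme.ΓSpecIso (CommRingCat.of A)).inv).1 inferInstance).2)
  { O := qProd q hq (qA k A) ⁻¹ᵁ U
    B := Γ(XA k X A, U)
    p := (qProd q hq (qA k A) ∣_ U) ≫ hU.isoSpec.hom
    proper := by
      haveI := isProper_qProd q hq (qA k A)
      haveI : IsProper (qProd q hq (qA k A) ∣_ U) := MorphismProperty.of_isPullback (isPullback_morphismRestrict _ U).flip inferInstance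
      infer_instance
    comp_eq := by
      have h1 : Spec.map (CommRingCat.ofHom (algebraMap A Γ(XA k X A, U))) = hU.fromSpec ≫ piA k X A := by
        show Spec.map ((Scheme.ΓSpecIso (CommRingCat.of A)).inv ≫ (piA k X A).appLE ⊤ U le_top) = _
        rw [← (isAffineOpen_top (Spec (CommRingCat.of A))).SpecMap_appLE_fromSpec (piA k X A) hU le_top,
          Spec.map_comp]
        congr 1
        rw [IsAffineOpen.fromSpec_top, Scheme.isoSpec_Spec_inv]
      rw [h1, Category.assoc, ← Category.assoc hU.isoSpec.hom]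
      show _ ≫ (hU.isoSpec.hom ≫ hU.isoSpec.inv ≫ U.ι) ≫ _ = _
      rw [hU.isoSpec.hom_inv_id_assoc, morphismRestrict_ι_assoc, pullback.lift_snd] }

theorem pieceOver_O {V : X.Opens} (hV : IsAffineOpen V) :
    (pieceOver q hq A hV).O = qProd q hq (qA k A) ⁻¹ᵁ above A V := rfl

variable {A}

theorem pullSec_eq_zero_of_killed (ψ : A →ₐ[k] k) {G : (XA k P A).Modules} (U : (XA k X A).Opens)
    {x : Γ(G, qProd q hq (qA k A) ⁻¹ᵁ U)} (hx : x ∈ killed P ψ G (qProd q hq (qA k A) ⁻¹ᵁ U)) :
    QCoh.pullSec (slc X ψ) ((Scheme.Modules.pushforward (qProd q hq (qA k A))).obj G)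
      (le_refl ((slc X ψ) ⁻¹ᵁ U)) x = 0 := by
  let O := qProd q hq (qA k A) ⁻¹ᵁ U
  let H := (Scheme.Modules.pushforward (qProd q hq (qA k A))).obj G
  refine Submodule.smul_induction_on hx (fun r hr y _ => ?_) fun a b ha hb => ?_
  · suffices hs : ∀ y : Γ(G, O), QCoh.pullSec (slc X ψ) H (le_refl ((slc X ψ) ⁻¹ᵁ U)) (r • y) = 0 from hs y
    clear * - hr
    refine Submodule.span_induction ?_ ?_ ?_ ?_ hr
    · rintro _ ⟨a, ha, rfl⟩ y
      have hy : (rhoO P O a • y : Γ(G, O)) = (rhoO X U a • (show Γ(H, U) from y) : Γ(H, U)) := by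
        refine congrArg (fun c => (c • y : Γ(G, O))) ?_
        show (XA k P A).presheaf.map _ ((piA k P A).appTop ((Scheme.ΓSpecIso (CommRingCat.of A)).inv a)) =
          (qProd q hq (qA k A)).app U ((XA k X A).presheaf.map _
            ((piA k X A).appTop ((Scheme.ΓSpecIso (CommRingCat.of A)).inv a)))
        have h := congrArg (fun φ => Scheme.Hom.appTop φ ((Scheme.ΓSpecIso (CommRingCat.of A)).inv a))
          (pullback.lift_snd (pullback.fst _ _ ≫ q) (pullback.snd (P ↘ Spec (CommRingCat.of k)) (qA k A))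
            (by rw [Category.assoc, hq]; exact pullback.condition) :
            qProd q hq (qA k A) ≫ piA k X A = piA k P A)
        simp only [Scheme.Hom.comp_appTop, CommRingCat.comp_apply] at h
        rw [← h]
        exact (ConcreteCategory.congr_hom ((qProd q hq (qA k A)).naturality (homOfLE (le_top : U ≤ ⊤)).op) _).symm
      rw [hy]
      exact pullSec_killed X ψ H U (Submodule.smul_mem_smul (Ideal.mem_map_of_mem _ ha) trivial)
    · intro y
      rw [zero_smul]
      exact pullSec_zero _ _ _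
    · intro c d _ _ hc hd y
      rw [add_smul]
      exact (QCoh.pullSec_add _ _ _ _ _).trans ((congrArg₂ (· + ·) (hc y) (hd y)).trans (add_zero _))
    · intro c d _ hd y
      rw [smul_eq_mul, mul_comm, mul_smul]
      exact hd _
  · exact (QCoh.pullSec_add _ _ _ _ _).trans ((congrArg₂ (· + ·) ha hb).trans (add_zero _))

theorem bijective_pullSec_of_eq {Y Z : Scheme.{u}} (g : Y ⟶ Z) (M : Z.Modules) {V : Z.Opens} {W : Y.Opens}
    (h : W = g ⁻¹ᵁ V) (hle : W ≤ g ⁻¹ᵁ V) (p : Γ(M, V) → Prop)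
    (hs : Function.Surjective (QCoh.pullSec g M (le_refl (g ⁻¹ᵁ V))))
    (hk : ∀ x, QCoh.pullSec g M (le_refl (g ⁻¹ᵁ V)) x = 0 → p x) :
    Function.Surjective (QCoh.pullSec g M hle) ∧ ∀ x, QCoh.pullSec g M hle x = 0 → p x := by
  subst h
  exact ⟨hs, hk⟩

/-- The base change map at a point is an isomorphism when sections restrict onto the fibres. -/
theorem isIso_beta_slc {κ : Type u} (V : κ → X.Opens) (hV : ∀ i, IsAffineOpen (V i)) (hcov : ∀ x : X, ∃ i, x ∈ V i)
    {G : (XA k P A).Modules} (hG : Coh.IsQCoh G) (hsec : ∀ i, SecBC P G (qProd q hq (qA k A) ⁻¹ᵁ above A (V i)))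
    (ψ : A →ₐ[k] k) :
    IsIso (beta (qProd q hq (qA k A)) q (slc X ψ) (slc P ψ) (slice_qProd q hq _ _ (point_comp ψ)) G) := by
  haveI := isProper_qProd q hq (qA k A)
  haveI : IsProper q := by
    haveI : IsProper (q ≫ (X ↘ Spec (CommRingCat.of k))) := by rw [hq]; infer_instance
    exact IsProper.of_comp q (X ↘ Spec (CommRingCat.of k))
  let H := (Scheme.Modules.pushforward (qProd q hq (qA k A))).obj G
  have hH : Coh.IsQCoh H := QCoh.isQCoh_pushforward _ hG
  let U := fun i => (above A (V i) : (XA k X A).Opens)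
  have he : ∀ i, slc X ψ ⁻¹ᵁ U i = V i := fun i => by
    show (slc X ψ ≫ pullback.fst _ _) ⁻¹ᵁ V i = V i
    rw [sliceAt_fst]
    rfl
  refine isIso_of_cover (QCoh.isQCoh_pullback _ hH) (QCoh.isQCoh_pushforward q (QCoh.isQCoh_pullback _ hG)) _
    (fun i => slc X ψ ⁻¹ᵁ U i) (fun i => by rw [he]; exact hV i) (fun x => ?_) fun i => ?_
  · obtain ⟨i, hi⟩ := hcov x
    exact ⟨i, by rw [he]; exact hi⟩
  let w := slice_qProd q hq (qA k A) (Spec.map (CommRingCat.ofHom ψ.toRingHom)) (point_comp ψ)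
  have hpre : q ⁻¹ᵁ (slc X ψ ⁻¹ᵁ U i) = slc P ψ ⁻¹ᵁ (qProd q hq (qA k A) ⁻¹ᵁ U i) :=
    congrArg (fun h : P ⟶ XA k X A => h ⁻¹ᵁ U i) w.symm
  obtain ⟨hs, hk⟩ := bijective_pullSec_of_eq (slc P ψ) G hpre hpre.le
    (fun x => x ∈ killed P ψ G (qProd q hq (qA k A) ⁻¹ᵁ U i)) (hsec i ψ).1 (hsec i ψ).2
  have hsX := (slc_affine X ψ hH (isAffineOpen_above A (hV i))).1
  refine ⟨(injective_iff_map_eq_zero _).2 fun z hz => ?_, fun y => ?_⟩
  · obtain ⟨x, rfl⟩ := hsX z
    rw [beta_app] at hz
    exact pullSec_eq_zero_of_killed q hq ψ (U i) (hk x hz)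
  · obtain ⟨x, hx⟩ := hs y
    exact ⟨_, (beta_app _ _ _ _ w G le_rfl x).trans hx⟩

theorem exists_affine_cover_fin (k : Type u) [Field k] [X.Over (Spec (CommRingCat.of k))]
    [IsProper (X ↘ Spec (CommRingCat.of k))] : ∃ (κ : Type u) (_ : Finite κ) (V : κ → X.Opens),
    (∀ i, IsAffineOpen (V i)) ∧ ∀ x : X, ∃ i, x ∈ V i := by
  haveI : CompactSpace X := AmpleVan.compactSpace_of_proper (A := k)
  let U := X.affineCover.finiteSubcover
  exact ⟨U.I₀, inferInstance, fun i => (U.f i).opensRange, fun i => isAffineOpen_opensRange _,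
    fun x => ⟨U.idx x, U.covers x⟩⟩

include hq in
/-- Direct images of the members of a bounded family form a bounded family. -/
theorem isBounded_push {Q : P.Modules → Prop} (h : Pic13.IsBounded k P Q) :
    Pic13.IsBounded k X fun L => ∃ M, Q M ∧ Nonempty ((Scheme.Modules.pushforward q).obj M ≅ L) := by
  obtain ⟨T, r, hr, hr', G, hG, hmem⟩ := h
  haveI := hr; haveI := hr'
  let R : (Spec (CommRingCat.of k) ⟶ T) → X.Modules → Prop := fun t L =>
    ∃ ht : t ≫ r = 𝟙 _, Nonempty ((Scheme.Modules.pushforward q).obj (Pic13.fibreMod k P r t ht G) ≅ L)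
  suffices hR : Pic13.IsBounded k X fun L => ∃ t, t ≫ r = 𝟙 _ ∧ R t L from
    isBounded_mono (fun L ⟨M, hM, ⟨e⟩⟩ => by
      obtain ⟨t, ht, ⟨eM⟩⟩ := hmem M hM
      exact ⟨t, ht, ht, ⟨(Scheme.Modules.pushforward q).mapIso eM ≪≫ e⟩⟩) hR
  refine isBounded_of_generic' X r R fun A _ _ _ _ j hj => ?_
  haveI : LocallyOfFiniteType (qA k A) := by
    rw [HasRingHomProperty.Spec_iff (P := @LocallyOfFiniteType)]
    exact RingHom.finiteType_algebraMap.2 inferInstance
  haveI := isLocallyNoetherian_prodK (X := P) (qA k A)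
  let GA := (Scheme.Modules.pullback (pm (X := P) j hj)).obj G
  have hGA : Coh.IsCoh GA := ZClosLib.isCoh_pullback _ hG
  obtain ⟨κ, _, V, hV, hcov⟩ := exists_affine_cover_fin k (X := X)
  obtain ⟨a, ha, -, hsec⟩ := exists_secBC P A hGA fun i => pieceOver q hq A (hV i)
  let A' := Localization.Away a
  haveI : Algebra.FiniteType k A' := Algebra.FiniteType.trans (S := A) inferInstance inferInstance
  haveI : LocallyOfFiniteType (qA k A') := by
    rw [HasRingHomProperty.Spec_iff (P := @LocallyOfFiniteType)]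
    exact RingHom.finiteType_algebraMap.2 inferInstance
  haveI := isLocallyNoetherian_prodK (X := P) (qA k A')
  haveI := isLocallyNoetherian_prodK (X := X) (qA k A')
  haveI := isProper_qProd q hq (qA k A')
  let G' := (Scheme.Modules.pullback (pmA (k := k) P A A')).obj GA
  have hG' : Coh.IsCoh G' := ZClosLib.isCoh_pullback _ hGA
  have hsec' : ∀ i, SecBC P G' (qProd q hq (qA k A') ⁻¹ᵁ above A' (V i)) := fun i => by
    have hO : pmA (k := k) P A A' ⁻¹ᵁ (qProd q hq (qA k A) ⁻¹ᵁ above A (V i)) =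
        qProd q hq (qA k A') ⁻¹ᵁ above A' (V i) := by
      have e : pmA (k := k) P A A' ≫ qProd q hq (qA k A) ≫ pullback.fst (X ↘ Spec (CommRingCat.of k)) (qA k A) =
          qProd q hq (qA k A') ≫ pullback.fst (X ↘ Spec (CommRingCat.of k)) (qA k A') := by
        rw [pullback.lift_fst, pullback.lift_fst, pullback.lift_fst_assoc]
      exact congrArg (fun h : XA k P A' ⟶ X => h ⁻¹ᵁ V i) e
    exact hO ▸ hsec i
  refine ⟨a, ha, isBounded_mono ?_ (isBounded_of_family X A'
    (ExistEasy.isCoh_pushforward_proper (qProd q hq (qA k A')) hG'))⟩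
  rintro L ⟨ψ, hψ, ht, ⟨e⟩⟩
  obtain ⟨ψ', hψ'⟩ := exists_lift_away a ψ hψ
  haveI := isIso_beta_slc q hq V hV hcov hG'.1 hsec' ψ'
  refine ⟨ψ', ⟨asIso (beta (qProd q hq (qA k A')) q (slc X ψ') (slc P ψ') (slice_qProd q hq _ _ (point_comp ψ')) G') ≪≫
    (Scheme.Modules.pushforward q).mapIso (pc (slc P ψ') (pmA (k := k) P A A')
      ((slc_pmA P A A' ψ').trans (by rw [hψ'])) GA ≪≫ fibrePm j hj _ (point_comp ψ) ht G) ≪≫ e⟩⟩

end Groth.Agent.Pic13Lib.Bdd
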