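import Groth.Agent.Pic13Lib.Bdd.Consequences
import Groth.Agent.SeesawX.Open
import Groth.Agent.CohPullX.DegreeZero

/-!
# Rigidity of families of invertible modules when the first cohomology vanishes
-/

set_option autoImplicit false
set_option linter.style.haveILetI false
set_option linter.unusedSectionVars false
set_option backward.isDefEq.respectTransparency false
set_option backward.isDefEq.respectTransparency.types false
set_option maxHeartbeats 2000000

universe u

open CategoryTheory CategoryTheory.Limits AlgebraicGeometry TopologicalSpace Opposite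
open Groth.Agent.H23 Groth.Agent.H23.PicMul

attribute [local instance] PicMul.clMonoid

noncomputable section

namespace Groth.Agent.Pic13Lib.Bdd

open Groth.Agent

variable {k : Type u} [Field k] [IsAlgClosed k] {X : Scheme.{u}} [X.Over (Spec (CommRingCat.of k))]
  [IsProper (X ↘ Spec (CommRingCat.of k))]

theorem isZero_fibre_coker {Y Z : Scheme.{u}} (g : Y ⟶ Z) {M N : Z.Modules} (f : M ⟶ N)
    [Epi ((Scheme.Modules.pullback g).map f)] : IsZero ((Scheme.Modules.pullback g).obj (cokernel f)) := by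
  haveI : (Scheme.Modules.pullback g).IsLeftAdjoint := (Scheme.Modules.pullbackPushforwardAdjunction g).isLeftAdjoint
  exact IsZero.of_iso (isZero_cokernel_of_epi _) (PreservesCokernel.iso (Scheme.Modules.pullback g) f)

theorem not_mem_support_of_fibre {Y Z : Scheme.{u}} (g : Y ⟶ Z) {Q : Z.Modules} (hQ : Coh.IsQCoh Q)
    (hft : CohB1.IsFT Q) (h : IsZero ((Scheme.Modules.pullback g).obj Q)) (y : Y) :
    g y ∉ ((Fitt.sheafIdeal Q 0).support : Set Z) := by
  intro hy
  have hbot : ((Fitt.sheafIdeal Q 0).comap g).support = ⊥ := by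
    rw [FittX.sheafIdeal_comap _ hQ hft, Scheme.IdealSheafData.support_eq_bot_iff]
    exact SeesawX.sheafIdeal_zero_of_isZero (QCoh.isQCoh_pullback _ hQ) (FittX.isFT_pullback _ hQ hft) h
  rw [Scheme.IdealSheafData.support_comap, ← SetLike.coe_set_eq, TopologicalSpace.Closeds.coe_preimage,
    TopologicalSpace.Closeds.coe_bot, Set.eq_empty_iff_forall_notMem] at hbot
  exact hbot y hy

theorem isZero_fibre_of_avoid {Y Z : Scheme.{u}} (g : Y ⟶ Z) {Q : Z.Modules} (hQ : Coh.IsQCoh Q)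
    (hft : CohB1.IsFT Q) (h : ∀ y, g y ∉ ((Fitt.sheafIdeal Q 0).support : Set Z)) :
    IsZero ((Scheme.Modules.pullback g).obj Q) := by
  refine SeesawX.isZero_of_sheafIdeal_zero (QCoh.isQCoh_pullback _ hQ) (FittX.isFT_pullback _ hQ hft) ?_
  rw [← FittX.sheafIdeal_comap _ hQ hft, ← Scheme.IdealSheafData.support_eq_bot_iff,
    Scheme.IdealSheafData.support_comap, ← SetLike.coe_set_eq, TopologicalSpace.Closeds.coe_preimage,
    TopologicalSpace.Closeds.coe_bot, Set.eq_empty_iff_forall_notMem]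
  exact h

/-- Near a trivial fibre all fibres are trivial. -/
theorem exists_nhd_trivial (h1 : Subsingleton (Coh.HH X (Coh.structureModule X) 1)) (A : Type u) [CommRing A]
    [Algebra k A] [Algebra.FiniteType k A] {M : (XA k X A).Modules} (hM : PicF.IsInvertible M) (ψ₀ : A →ₐ[k] k)
    (h0 : Nonempty ((Scheme.Modules.pullback (slc X ψ₀)).obj M ≅ Coh.structureModule X)) :
    ∃ U : (Spec (CommRingCat.of A)).Opens,
      Spec.map (CommRingCat.ofHom ψ₀.toRingHom) (IsLocalRing.closedPoint k) ∈ U ∧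
      ∀ ψ : A →ₐ[k] k, Spec.map (CommRingCat.ofHom ψ.toRingHom) (IsLocalRing.closedPoint k) ∈ U →
        Nonempty ((Scheme.Modules.pullback (slc X ψ)).obj M ≅ Coh.structureModule X) := by
  classical
  obtain ⟨τ⟩ := h0
  haveI : IsNoetherianRing A := Algebra.FiniteType.isNoetherianRing k A
  haveI : LocallyOfFiniteType (qA k A) := by
    rw [HasRingHomProperty.Spec_iff (P := @LocallyOfFiniteType)]
    exact RingHom.finiteType_algebraMap.2 inferInstance
  haveI := CurveCohLib.isNoetherian_of_proper (k := k) (X := X)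
  haveI : LocallyOfFinitePresentation (X ↘ Spec (CommRingCat.of k)) :=
    AlgStLib.locallyOfFinitePresentation_of_isLocallyNoetherian _ inferInstance
  haveI := isLocallyNoetherian_prodK (X := X) (qA k A)
  haveI : IsProper (piA k X A) := MorphismProperty.pullback_snd _ _ inferInstance
  haveI : LocallyOfFinitePresentation (piA k X A) := MorphismProperty.pullback_snd _ _ inferInstance
  haveI : Flat (X ↘ Spec (CommRingCat.of k)) := inferInstance
  haveI : Flat (piA k X A) := MorphismProperty.pullback_snd _ _ inferInstance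
  have hc : Coh.IsCoh M := AmpleVan.isCoh_invertible hM
  have hfp : CohB1.IsFP M := QCoh.isCoh_iff_isFP.1 hc
  have hfl : FlatMod.IsFlatOver (piA k X A) M := H23.Seesaw.isFlatOver_of_isInvertible _ hM
  let g := Spec.map (CommRingCat.ofHom ψ₀.toRingHom)
  let y₀ := g (IsLocalRing.closedPoint k)
  have hH : Subsingleton (CohIII.fiberH (piA k X A) M y₀ 1) :=
    subsingleton_fiberH_point (qA k A) g (point_comp ψ₀) M hc.1 1 (QCoh.subsingleton_HH_of_iso τ.symm 1 h1)
  obtain ⟨W, hW, hk⟩ := CohPullX.exists_kerBC_nhd_of_H1_zero hfp hfl y₀ hH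
  haveI hβ : IsIso (CohBC.bc0 (piA k X A) g (X ↘ Spec (CommRingCat.of k)) (slc X ψ₀) (isPullback_slc X ψ₀).w M) :=
    CohPullX.isIso_bc0_of_hasKerBC (isPullback_slc X ψ₀) hc.1 fun p => ⟨W, by
      haveI : Subsingleton ↥(Spec (CommRingCat.of k)) := inferInstanceAs (Subsingleton (PrimeSpectrum k))
      rw [Subsingleton.elim p (IsLocalRing.closedPoint k)]; exact hW, hk⟩
  -- lift the frame
  let H := (Scheme.Modules.pushforward (piA k X A)).obj M
  haveI : IsClosedImmersion g := IsClosedImmersion.spec_of_surjective _ (surjective_point ψ₀)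
  have hH' : Coh.IsQCoh H := QCoh.isQCoh_pushforward _ hc.1
  have hsurj : Function.Surjective (QCoh.pullSec g H (le_refl (g ⁻¹ᵁ ⊤))) := fun z => by
    haveI : IsAffineHom g := inferInstance
    obtain ⟨x, hx⟩ := (QCoh.unit_app_closed g hH' (isAffineOpen_top _)).1 z
    exact ⟨x, (app_unit_eq_pullSec g H ⊤ x).symm.trans hx⟩
  obtain ⟨x, hx⟩ : ∃ x : Γ(M, ⊤), QCoh.pullSec (slc X ψ₀) M (le_top : (⊤ : X.Opens) ≤ slc X ψ₀ ⁻¹ᵁ ⊤) x =
      τ.inv.app ⊤ (show Γ(Coh.structureModule X, ⊤) from (1 : Γ(X, ⊤))) := by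
    have hb := (ConcreteCategory.isIso_iff_bijective
      ((beta (piA k X A) (X ↘ Spec (CommRingCat.of k)) g (slc X ψ₀) (isPullback_slc X ψ₀).w M).app (g ⁻¹ᵁ ⊤))).1
      (by
        haveI : IsIso (beta (piA k X A) (X ↘ Spec (CommRingCat.of k)) g (slc X ψ₀) (isPullback_slc X ψ₀).w M) := hβ
        infer_instance)
    obtain ⟨z, hz⟩ := hb.2 (τ.inv.app ⊤ (show Γ(Coh.structureModule X, ⊤) from (1 : Γ(X, ⊤))))
    obtain ⟨x, rfl⟩ := hsurj z
    exact ⟨x, (beta_app (piA k X A) _ g (slc X ψ₀) (isPullback_slc X ψ₀).w M le_rfl x).symm.trans hz⟩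
  let s : Coh.structureModule (XA k X A) ⟶ M := InvX.ofSect x
  have hs : (Scheme.Modules.pullback (slc X ψ₀)).map s = (SeesawX.unitIso (slc X ψ₀)).hom ≫ τ.inv := by
    rw [← Iso.inv_comp_eq]
    refine SeesawX.hom_ext_one _ _ ?_
    have h1' : (SeesawX.unitIso (slc X ψ₀)).inv.app ⊤ (show Γ(Coh.structureModule X, ⊤) from (1 : Γ(X, ⊤))) =
        QCoh.pullSec (slc X ψ₀) (Coh.structureModule (XA k X A)) le_top
          (show Γ(Coh.structureModule (XA k X A), ⊤) from (1 : Γ(XA k X A, ⊤))) := by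
      rw [← SeesawX.unitIso_pullSec_one (slc X ψ₀) ⊤ le_top]
      exact congrArg (fun f => Scheme.Modules.Hom.app f ⊤ _) (SeesawX.unitIso (slc X ψ₀)).hom_inv_id
    show ((Scheme.Modules.pullback (slc X ψ₀)).map s).app ⊤ ((SeesawX.unitIso (slc X ψ₀)).inv.app ⊤ _) = _
    rw [h1', ExistEasy.pullSec_natural]
    exact (congrArg (QCoh.pullSec (slc X ψ₀) M le_top) (InvX.one_ofSect x)).trans hx
  let Q := cokernel s
  have hQ : Coh.IsCoh Q := QCoh.isCoh_cokernel QCoh.isCoh_structureModule'.1 hc s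
  haveI : Epi ((Scheme.Modules.pullback (slc X ψ₀)).map s) := by rw [hs]; infer_instance
  have hQ₀ := isZero_fibre_coker (slc X ψ₀) s
  let K : Set (XA k X A) := (Fitt.sheafIdeal Q 0).support
  have hmem : ∀ (ψ : A →ₐ[k] k) (p : XA k X A),
      piA k X A p = Spec.map (CommRingCat.ofHom ψ.toRingHom) (IsLocalRing.closedPoint k) →
        ∃ z, slc X ψ z = p := fun ψ p hp => by
    obtain ⟨z, hz, -⟩ := Scheme.Pullback.exists_preimage_pullback (f := piA k X A)
      (g := Spec.map (CommRingCat.ofHom ψ.toRingHom)) p (IsLocalRing.closedPoint k) hp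
    refine ⟨(isPullback_slc X ψ).isoPullback.inv z, ?_⟩
    rw [← Scheme.Hom.comp_apply, (isPullback_slc X ψ).isoPullback_inv_fst, hz]
  let U : (Spec (CommRingCat.of A)).Opens :=
    ⟨(piA k X A '' K)ᶜ, ((piA k X A).isClosedMap _ (Fitt.sheafIdeal Q 0).support.isClosed).isOpen_compl⟩
  refine ⟨U, fun ⟨p, hp, hpy⟩ => ?_, fun ψ hψ => ?_⟩
  · obtain ⟨z, rfl⟩ := hmem ψ₀ p hpy
    exact not_mem_support_of_fibre (slc X ψ₀) hQ.1 hQ.2 hQ₀ z hp
  let a := slc X ψ
  have hz : IsZero ((Scheme.Modules.pullback a).obj Q) := isZero_fibre_of_avoid a hQ.1 hQ.2 fun z hz => by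
    refine hψ ⟨a z, hz, ?_⟩
    haveI : Subsingleton ↥(Spec (CommRingCat.of k)) := inferInstanceAs (Subsingleton (PrimeSpectrum k))
    have := congr($((isPullback_slc X ψ).w).base z)
    exact this.trans ((Scheme.Hom.comp_apply _ _ _).trans
      (congrArg (Spec.map (CommRingCat.ofHom ψ.toRingHom)) (Subsingleton.elim _ _)))
  haveI : (Scheme.Modules.pullback a).IsLeftAdjoint := (Scheme.Modules.pullbackPushforwardAdjunction a).isLeftAdjoint
  haveI : Epi ((Scheme.Modules.pullback a).map s) := Abelian.epi_of_cokernel_π_eq_zero _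
    ((hz.of_iso (PreservesCokernel.iso (Scheme.Modules.pullback a) s).symm).eq_of_tgt _ _)
  haveI := SeesawX.isIso_of_epi_rank
    (SeesawX.isFinLocFreeOfRank_one (PicClLib.isInvertible_pullback a InvX.isInvertible_structureModule))
    (SeesawX.isFinLocFreeOfRank_one (PicClLib.isInvertible_pullback a hM)) ((Scheme.Modules.pullback a).map s)
  exact ⟨(asIso ((Scheme.Modules.pullback a).map s)).symm ≪≫ SeesawX.unitIso a⟩

/-- Near every point the classes of the fibres are constant. -/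
theorem exists_nhd_const (h1 : Subsingleton (Coh.HH X (Coh.structureModule X) 1)) {T : Scheme.{u}}
    (q : T ⟶ Spec (CommRingCat.of k)) [LocallyOfFiniteType q] {M : (Pic13.prodK k X q).Modules}
    (hM : PicF.IsInvertible M) (t₀ : Spec (CommRingCat.of k) ⟶ T) (ht₀ : t₀ ≫ q = 𝟙 _) :
    ∃ U : T.Opens, t₀ (IsLocalRing.closedPoint k) ∈ U ∧
      ∀ (t : Spec (CommRingCat.of k) ⟶ T) (ht : t ≫ q = 𝟙 _), t (IsLocalRing.closedPoint k) ∈ U →
        PicF.cl (Pic13.fibreMod k X q t ht M) = PicF.cl (Pic13.fibreMod k X q t₀ ht₀ M) := by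
  classical
  obtain ⟨_, ⟨V, hV, rfl⟩, hV₀, -⟩ :=
    T.isBasis_affineOpens.exists_subset_of_mem_open (Set.mem_univ (t₀ (IsLocalRing.closedPoint k))) isOpen_univ
  let j : Spec Γ(T, V) ⟶ T := hV.fromSpec
  obtain ⟨φ, hφ⟩ : ∃ φ : CommRingCat.of k ⟶ Γ(T, V), Spec.map φ = j ≫ q := ⟨_, Spec.map_preimage _⟩
  letI : Algebra k Γ(T, V) := φ.hom.toAlgebra
  haveI : Algebra.FiniteType k Γ(T, V) := by
    have h : LocallyOfFiniteType (Spec.map φ) := by rw [hφ]; infer_instance
    rw [HasRingHomProperty.Spec_iff (P := @LocallyOfFiniteType)] at h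
    exact RingHom.finiteType_algebraMap.1 h
  have hj : j ≫ q = qA k Γ(T, V) := hφ.symm
  have hlift : ∀ (t : Spec (CommRingCat.of k) ⟶ T) (ht : t ≫ q = 𝟙 _), t (IsLocalRing.closedPoint k) ∈ V →
      ∃ ψ : Γ(T, V) →ₐ[k] k, Spec.map (CommRingCat.ofHom ψ.toRingHom) ≫ j = t := fun t ht hm => by
    obtain ⟨z, hz⟩ : t (IsLocalRing.closedPoint k) ∈ Set.range j := by rw [hV.range_fromSpec]; exact hm
    obtain ⟨tz, htz⟩ := exists_lift_preimmersion j t z hz
    obtain ⟨θ, hθ⟩ : ∃ θ : Γ(T, V) ⟶ CommRingCat.of k, Spec.map θ = tz := ⟨_, Spec.map_preimage _⟩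
    have hc : φ ≫ θ = 𝟙 _ := Spec.map_injective (by
      rw [Spec.map_comp, hθ, hφ, reassoc_of% htz, ht, Spec.map_id])
    exact ⟨{ θ.hom with commutes' := fun c => congr($hc c) }, (congrArg (· ≫ j) hθ).trans htz⟩
  obtain ⟨ψ₀, hψ₀⟩ := hlift t₀ ht₀ hV₀
  let N₀ := Pic13.fibreMod k X q t₀ ht₀ M
  obtain ⟨N', hN', ⟨eN⟩⟩ := PicInv.exists_inverse
    (show PicF.IsInvertible N₀ from PicClLib.isInvertible_pullback _ hM)
  have hinv : PicF.cl N₀ * PicF.cl N' = 1 :=
    (cl_tensor _ _).symm.trans ((cl_eq_iff.2 ⟨eN⟩).trans PicMul.one_def.symm)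
  let MA := (Scheme.Modules.pullback (pm (X := X) j hj)).obj
    (CohB1.tensorMod M ((Scheme.Modules.pullback (pullback.fst (X ↘ Spec (CommRingCat.of k)) q)).obj N'))
  have hMA : PicF.IsInvertible MA :=
    PicClLib.isInvertible_pullback _ (InvX.isInvertible_tensorMod hM (PicClLib.isInvertible_pullback _ hN'))
  have hfib : ∀ (ψ : Γ(T, V) →ₐ[k] k) (t : Spec (CommRingCat.of k) ⟶ T) (ht : t ≫ q = 𝟙 _),
      Spec.map (CommRingCat.ofHom ψ.toRingHom) ≫ j = t →
      PicF.cl ((Scheme.Modules.pullback (slc X ψ)).obj MA) =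
        PicF.cl (Pic13.fibreMod k X q t ht M) * PicF.cl N' := by
    rintro ψ _ ht rfl
    rw [← fibre_tensor_fst]
    exact cl_eq_iff.2 ⟨fibrePm j hj _ (point_comp ψ) ht _⟩
  obtain ⟨U, hU₀, hU⟩ := exists_nhd_trivial h1 Γ(T, V) hMA ψ₀ (cl_eq_iff.1 (by
    rw [hfib ψ₀ t₀ ht₀ hψ₀, hinv, PicMul.one_def]))
  have hpt : ∀ (ψ : Γ(T, V) →ₐ[k] k) (t : Spec (CommRingCat.of k) ⟶ T),
      Spec.map (CommRingCat.ofHom ψ.toRingHom) ≫ j = t →
      t (IsLocalRing.closedPoint k) = j (Spec.map (CommRingCat.ofHom ψ.toRingHom) (IsLocalRing.closedPoint k)) := by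
    rintro ψ _ rfl
    rfl
  refine ⟨j ''ᵁ U, ⟨_, hU₀, (hpt ψ₀ t₀ hψ₀).symm⟩, fun t ht ⟨z, hz, hzt⟩ => ?_⟩
  obtain ⟨ψ, hψ⟩ := hlift t ht (by
    rw [← SetLike.mem_coe, ← hV.range_fromSpec]
    exact ⟨z, hzt⟩)
  have hψU : Spec.map (CommRingCat.ofHom ψ.toRingHom) (IsLocalRing.closedPoint k) ∈ U := by
    rw [← j.isOpenEmbedding.injective (hzt.trans (hpt ψ t hψ))]
    exact hz
  obtain ⟨e⟩ := hU ψ hψU
  have h2 : PicF.cl (Pic13.fibreMod k X q t ht M) * PicF.cl N' = 1 :=
    (hfib ψ t ht hψ).symm.trans ((cl_eq_iff.2 ⟨e⟩).trans PicMul.one_def.symm)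
  calc PicF.cl (Pic13.fibreMod k X q t ht M)
      = PicF.cl (Pic13.fibreMod k X q t ht M) * (PicF.cl N₀ * PicF.cl N') := by rw [hinv, mul_one]
    _ = PicF.cl N₀ * (PicF.cl (Pic13.fibreMod k X q t ht M) * PicF.cl N') := by ac_rfl
    _ = _ := by rw [h2, mul_one]

/-- Without first cohomology only the trivial class is algebraically equivalent to zero. -/
theorem nonempty_iso_of_isAlgEquivZero (h1 : Subsingleton (Coh.HH X (Coh.structureModule X) 1)) {L : X.Modules}
    (hL : Pic13.IsAlgEquivZero k X L) : Nonempty (L ≅ Coh.structureModule X) := by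
  classical
  obtain ⟨T, q, hconn, hlft, hqc, M, hM, t, t₀, ht, ht₀, ⟨e⟩, ⟨e₀⟩⟩ := hL
  haveI := hconn; haveI := hlft; haveI := hqc
  haveI : JacobsonSpace T := LocallyOfFiniteType.jacobsonSpace q
  let good : Bool → Set T := fun b => {z | ∃ U : T.Opens, z ∈ U ∧ ∀ (s : Spec (CommRingCat.of k) ⟶ T)
    (hs : s ≫ q = 𝟙 _), s (IsLocalRing.closedPoint k) ∈ U →
      (decide (Nonempty (Pic13.fibreMod k X q s hs M ≅ Coh.structureModule X)) = b)}
  have hopen : ∀ b, IsOpen (good b) := fun b =>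
    isOpen_iff_forall_mem_open.2 fun z ⟨U, hz, h⟩ => ⟨U, fun w hw => ⟨U, hw, h⟩, U.2, hz⟩
  have hclosedPt : ∀ z : T, IsClosed ({z} : Set T) → ∃ b, z ∈ good b := fun z hz => by
    obtain ⟨⟨s, hs⟩, hsz⟩ := (pointEquivClosedPoint q).surjective ⟨z, hz⟩
    have hsz' : s (IsLocalRing.closedPoint k) = z := congrArg Subtype.val hsz
    obtain ⟨U, hU, hc⟩ := exists_nhd_const h1 q hM s hs
    refine ⟨decide (Nonempty (Pic13.fibreMod k X q s hs M ≅ Coh.structureModule X)), U, hsz' ▸ hU,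
      fun s' hs' hm => ?_⟩
    have := hc s' hs' hm
    simp only [decide_eq_decide]
    rw [← cl_eq_iff, ← cl_eq_iff, this]
  have hcover : good true ∪ good false = Set.univ := by
    by_contra hne
    obtain ⟨z, hz, hzc⟩ := nonempty_inter_closedPoints (Z := (good true ∪ good false)ᶜ)
      (Set.nonempty_compl.2 hne) ((hopen true).union (hopen false)).isClosed_compl.isLocallyClosed
    obtain ⟨b, hb⟩ := hclosedPt z hzc
    cases b
    · exact hz (Or.inr hb)
    · exact hz (Or.inl hb)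
  have hdisj : good true ∩ good false = ∅ := by
    by_contra hne
    obtain ⟨z, ⟨⟨U, hU, hu⟩, ⟨V, hV, hv⟩⟩, hzc⟩ := nonempty_inter_closedPoints (Z := good true ∩ good false)
      (Set.nonempty_iff_ne_empty.2 hne) ((hopen true).inter (hopen false)).isLocallyClosed
    obtain ⟨⟨s, hs⟩, hsz⟩ := (pointEquivClosedPoint q).surjective ⟨z, hzc⟩
    have hsz' : s (IsLocalRing.closedPoint k) = z := congrArg Subtype.val hsz
    exact Bool.noConfusion ((hu s hs (hsz'.symm ▸ hU)).symm.trans (hv s hs (hsz'.symm ▸ hV)))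
  have htrue : t₀ (IsLocalRing.closedPoint k) ∈ good true := by
    obtain ⟨U, hU, hc⟩ := exists_nhd_const h1 q hM t₀ ht₀
    refine ⟨U, hU, fun s hs hm => ?_⟩
    simp only [decide_eq_true_eq]
    exact cl_eq_iff.1 ((hc s hs hm).trans (cl_eq_iff.2 ⟨e₀⟩))
  have huniv : good true = Set.univ := by
    refine IsClopen.eq_univ ⟨?_, hopen true⟩ ⟨_, htrue⟩
    rw [← isOpen_compl_iff]
    have : (good true)ᶜ = good false := by
      ext z
      constructor
      · intro h
        have : z ∈ good true ∪ good false := by rw [hcover]; trivial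
        exact this.resolve_left h
      · exact fun h h' => (Set.eq_empty_iff_forall_notMem.1 hdisj z) ⟨h', h⟩
    rw [this]
    exact hopen false
  obtain ⟨U, hU, hu⟩ : t (IsLocalRing.closedPoint k) ∈ good true := by rw [huniv]; trivial
  have h := hu t ht hU
  simp only [decide_eq_true_eq] at h
  exact ⟨e.symm ≪≫ h.some⟩

/-- Without first cohomology numerically trivial modules are torsion. -/
theorem exists_tensorPow_trivial (h1 : Subsingleton (Coh.HH X (Coh.structureModule X) 1)) {L : X.Modules}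
    (hL : NumTriv.IsNT k L) :
    ∃ d : ℕ, 0 < d ∧ Nonempty (CohB1.tensorPow L d ≅ Coh.structureModule X) := by
  obtain ⟨n, hn, h⟩ := isTauEquivZero_of_nt hL
  exact ⟨n, hn, nonempty_iso_of_isAlgEquivZero h1 h⟩

end Groth.Agent.Pic13Lib.Bdd
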